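import Cfsg.Agent.H531.GU.Int
import Cfsg.Agent.H421.GLn.NeckRS

/-!
# S4537, B2 (R3): the exterior powers act as the necklace operators (helper531)

* `orb_equiv` : the orbit of `x` is `x ^ (Q ^ i)`, `i < dOrb`;
* `gx θ Q x o = ∏_{y ∈ o} (1 + θ(y) ^ x X)`;
* `evR_En` : `evR (En n k x * y) = Eop (gx x) n k (evR y)` for `n ≤ N`.
-/

set_option autoImplicit false
set_option linter.unusedSectionVars false

open scoped ComplexConjugate
open Cfsg Cfsg.Agent.H615.GU Cfsg.Agent.H315.GU Cfsg.Agent.H577.GLB.Std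

universe u

namespace Cfsg.Agent.H531.GU

open Polynomial

/-! ### generalities -/

theorem coeff_prod_one_add {ι : Type*} [DecidableEq ι] (s : Finset ι) (w : ι → ℂ) (a : ℕ) :
    (∏ j ∈ s, (1 + C (w j) * X)).coeff a = ∑ S ∈ s.powersetCard a, ∏ j ∈ S, w j := by
  rw [Finset.prod_one_add, finsetSum_coeff, Finset.powersetCard_eq_filter, Finset.sum_filter]
  refine Finset.sum_congr rfl fun S _ => ?_
  rw [Finset.prod_mul_distrib, Finset.prod_const, ← map_prod, coeff_C_mul, coeff_X_pow]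
  split_ifs with h1 h2 h2
  · rw [mul_one]
  · exact absurd h1.symm h2
  · exact absurd h2.symm h1
  · rw [mul_zero]

theorem prod_periodic {A : Type*} [CommMonoid A] (f : ℕ → A) {d : ℕ} (hf : ∀ j, f (j + d) = f j) (m : ℕ) :
    ∏ j ∈ Finset.range (d * m), f j = (∏ j ∈ Finset.range d, f j) ^ m := by
  induction m with
  | zero => simp
  | succ m ih =>
    rw [Nat.mul_succ, Finset.prod_range_add, ih, pow_succ]
    congr 1
    refine Finset.prod_congr rfl fun j _ => ?_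
    clear ih
    induction m with
    | zero => rw [mul_zero, zero_add]
    | succ m ih => rw [Nat.mul_succ, add_right_comm, hf, ih]

/-! ### orbits -/

section Orbits

variable {K : Type*} [Field K] {Q : ℤ} {M : ℕ}

theorem iterate_pow (x : Kˣ) (j : ℕ) : (fun z : Kˣ => z ^ Q)^[j] x = x ^ (Q ^ j) := by
  induction j with
  | zero => rw [Function.iterate_zero, id, pow_zero, zpow_one]
  | succ j ih => rw [Function.iterate_succ_apply', ih, ← zpow_mul, pow_succ]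

theorem exists_period [Finite K] (hM : Nat.card Kˣ = M) (hQ : IsUnit (Q : ZMod M)) :
    ∃ L : ℕ, 0 < L ∧ ∀ x : Kˣ, x ^ (Q ^ L) = x := by
  have : NeZero M := ⟨by
    rw [← hM]
    exact (Nat.card_pos (α := Kˣ)).ne'⟩
  obtain ⟨u, hu⟩ := hQ
  refine ⟨orderOf u, orderOf_pos u, fun x => ?_⟩
  have h1 : ((Q ^ orderOf u : ℤ) : ZMod M) = ((1 : ℤ) : ZMod M) := by
    rw [Int.cast_pow, ← hu, ← Units.val_pow_eq_pow_val, pow_orderOf_eq_one, Units.val_one, Int.cast_one]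
  rw [ZMod.intCast_eq_intCast_iff_dvd_sub] at h1
  obtain ⟨s, hs⟩ := h1
  have h2 : Q ^ orderOf u = 1 - M * s := by linarith
  rw [h2, zpow_sub, zpow_one, zpow_mul, zpow_natCast, ← hM, pow_card_eq_one', one_zpow, inv_one, mul_one]

theorem mk_eq_iff [Finite K] (hM : Nat.card Kˣ = M) (hQ : IsUnit (Q : ZMod M)) (x y : Kˣ) :
    Quotient.mk (orbSetoid K Q) y = Quotient.mk (orbSetoid K Q) x ↔ ∃ j : ℕ, y = x ^ (Q ^ j) := by
  rw [Quotient.eq]
  constructor
  · rintro ⟨i, j, h⟩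
    obtain ⟨L, hL, hper⟩ := exists_period hM hQ
    have hper' : ∀ (x : Kˣ) (m : ℕ), x ^ (Q ^ (m * L)) = x := by
      intro x m
      induction m with
      | zero => rw [zero_mul, pow_zero, zpow_one]
      | succ m ih => rw [Nat.succ_mul, pow_add, zpow_mul, ih, hper]
    refine ⟨j + i * (L - 1), ?_⟩
    have h1 : i + i * (L - 1) = i * L := by
      obtain ⟨L', rfl⟩ : ∃ L', L = L' + 1 := ⟨L - 1, by omega⟩
      rw [Nat.add_sub_cancel]
      ring
    rw [pow_add, zpow_mul, ← h, ← zpow_mul, ← pow_add, h1, hper']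
  · rintro ⟨j, rfl⟩
    exact ⟨0, j, by rw [pow_zero, zpow_one]⟩

/-- the orbit of `x` -/
theorem orb_equiv [Finite K] (hM : Nat.card Kˣ = M) (hQ : IsUnit (Q : ZMod M)) {o : Orb K Q} {x : Kˣ}
    (hx : Quotient.mk (orbSetoid K Q) x = o) :
    ∃ e : Fin (dOrb K Q o) ≃ {y : Kˣ // (Quotient.mk (orbSetoid K Q) y) = o}, ∀ i, ((e i : Kˣ)) = x ^ (Q ^ (i : ℕ)) := by
  set d := Function.minimalPeriod (fun z : Kˣ => z ^ Q) x with hd
  let f : Fin d → {y : Kˣ // (Quotient.mk (orbSetoid K Q) y) = o} := fun i =>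
    ⟨x ^ (Q ^ (i : ℕ)), by rw [← hx]; exact (mk_eq_iff hM hQ _ _).2 ⟨i, rfl⟩⟩
  obtain ⟨L, hL, hper⟩ := exists_period (K := K) hM hQ
  have hpos : 0 < d := by
    rw [hd]
    refine Function.minimalPeriod_pos_of_mem_periodicPts ⟨L, hL, ?_⟩
    show (fun z : Kˣ => z ^ Q)^[L] x = x
    rw [iterate_pow, hper]
  have hf : Function.Bijective f := by
    constructor
    · intro i j hij
      have h1 : (fun z : Kˣ => z ^ Q)^[(i : ℕ)] x = (fun z : Kˣ => z ^ Q)^[(j : ℕ)] x := by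
        rw [iterate_pow, iterate_pow]
        exact congrArg Subtype.val hij
      exact Fin.ext (Function.iterate_injOn_Iio_minimalPeriod i.2 j.2 h1)
    · rintro ⟨y, hy⟩
      rw [← hx] at hy
      obtain ⟨j, hj⟩ := (mk_eq_iff hM hQ _ _).1 hy
      refine ⟨⟨j % d, Nat.mod_lt _ hpos⟩, Subtype.ext ?_⟩
      show x ^ (Q ^ (j % d)) = y
      rw [hj, ← iterate_pow, ← iterate_pow, hd, Function.iterate_mod_minimalPeriod_eq]
  have hcard : dOrb K Q o = d := by
    rw [dOrb, ← Nat.card_congr (Equiv.ofBijective f hf), Nat.card_fin]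
  refine ⟨(finCongr hcard).trans (Equiv.ofBijective f hf), fun i => ?_⟩
  rfl

theorem dOrb_pos [Finite K] (o : Orb K Q) : 0 < dOrb K Q o := by
  obtain ⟨x, hx⟩ := Quotient.exists_rep o
  have : Nonempty {y : Kˣ // (Quotient.mk (orbSetoid K Q) y) = o} := ⟨⟨x, hx⟩⟩
  exact Nat.card_pos

theorem pow_dOrb [Finite K] (hM : Nat.card Kˣ = M) (hQ : IsUnit (Q : ZMod M)) {o : Orb K Q} {x : Kˣ}
    (hx : Quotient.mk (orbSetoid K Q) x = o) : x ^ (Q ^ dOrb K Q o) = x := by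
  -- a bijection of the orbit shows that the minimal period is the size
  obtain ⟨e, he⟩ := orb_equiv hM hQ hx
  have hpos := dOrb_pos o
  have h1 : Quotient.mk (orbSetoid K Q) (x ^ (Q ^ dOrb K Q o)) = o := by
    rw [← hx]
    exact (mk_eq_iff hM hQ _ _).2 ⟨_, rfl⟩
  obtain ⟨i, hi⟩ := e.surjective ⟨_, h1⟩
  have h2 : x ^ (Q ^ (i : ℕ)) = x ^ (Q ^ dOrb K Q o) := by
    rw [← he i, hi]
  -- cancel
  obtain ⟨L, hL, hper⟩ := exists_period (K := K) hM hQ
  have hinj : Function.Injective fun z : Kˣ => z ^ Q := by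
    intro z w h
    have h3 : ∀ z : Kˣ, (z ^ Q) ^ (Q ^ (L - 1)) = z := by
      intro z
      rw [← zpow_mul, ← pow_succ', Nat.sub_add_cancel hL, hper]
    rw [← h3 z, ← h3 w]
    exact congrArg (· ^ (Q ^ (L - 1))) h
  rcases Nat.eq_zero_or_pos (i : ℕ) with h0 | h0
  · rw [← h2, h0, pow_zero, zpow_one]
  · exfalso
    have h4 : (fun z : Kˣ => z ^ Q)^[(i : ℕ)] x = (fun z : Kˣ => z ^ Q)^[(i : ℕ)] (x ^ (Q ^ (dOrb K Q o - i))) := by
      rw [iterate_pow, iterate_pow, ← zpow_mul, ← pow_add, Nat.sub_add_cancel i.2.le, h2]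
    have h5 := (hinj.iterate (i : ℕ)) h4
    have h6 : e ⟨0, hpos⟩ = e ⟨dOrb K Q o - i, by omega⟩ := by
      refine Subtype.ext ?_
      rw [he, he]
      show x ^ (Q ^ 0) = x ^ (Q ^ (dOrb K Q o - i))
      rw [pow_zero, zpow_one]
      exact h5
    have h7 := congrArg Fin.val (e.injective h6)
    simp only [] at h7
    have := i.2
    omega

theorem pow_of_dvd [Finite K] (hM : Nat.card Kˣ = M) (hQ : IsUnit (Q : ZMod M)) {o : Orb K Q} {x : Kˣ}
    (hx : Quotient.mk (orbSetoid K Q) x = o) {k : ℕ} (hk : dOrb K Q o ∣ k) : x ^ (Q ^ k) = x := by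
  obtain ⟨m, rfl⟩ := hk
  induction m with
  | zero => rw [mul_zero, pow_zero, zpow_one]
  | succ m ih => rw [Nat.mul_succ, pow_add, zpow_mul, ih, pow_dOrb hM hQ hx]

end Orbits

/-! ### theta sums -/

section Theta

variable {K : Type*} [Field K] [Finite K] (θ : K →*₀ ℂ) {Q : ℤ} {M : ℕ}

/-- the sum of `θ ^ a` over an orbit -/
noncomputable def thA (Q : ℤ) (a : ℤ) (o : Orb K Q) : ℂ :=
  ∑ᶠ y : {y : Kˣ // (Quotient.mk (orbSetoid K Q) y) = o}, θ ((y : Kˣ) : K) ^ a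

/-- the polynomial `∏ (1 + θ(y) ^ x X)` over an orbit -/
noncomputable def gx (Q : ℤ) (x : ℤ) (o : Orb K Q) : ℂ[X] :=
  ∏ᶠ y : {y : Kˣ // (Quotient.mk (orbSetoid K Q) y) = o}, (1 + C (θ ((y : Kˣ) : K) ^ x) * X)

theorem gx_coeff_zero (x : ℤ) (o : Orb K Q) : (gx θ Q x o).coeff 0 = 1 := by
  classical
  have := Fintype.ofFinite {y : Kˣ // (Quotient.mk (orbSetoid K Q) y) = o}
  rw [gx, finprod_eq_prod_of_fintype, coeff_zero_prod]
  exact Finset.prod_eq_one fun y _ => by simp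

theorem theta_pow (y : Kˣ) (x : ℤ) (n : ℤ) : θ (((y ^ n : Kˣ)) : K) ^ x = θ (y : K) ^ (x * n) := by
  rw [Units.val_zpow_eq_zpow_val, map_zpow₀, ← zpow_mul, mul_comm]

theorem theta_ne (y : Kˣ) : θ (y : K) ≠ 0 := by
  rw [Ne, map_eq_zero]
  exact y.ne_zero

/-- the elementary symmetric sums over an orbit -/
theorem sum_thA (hM : Nat.card Kˣ = M) (hQ : IsUnit (Q : ZMod M)) (x : ℤ) (o : Orb K Q) {r : ℕ}
    (hr : dOrb K Q o ∣ r) (a : ℕ) :
    ∑ S ∈ (Finset.range r).powersetCard a, thA θ Q (x * ∑ j ∈ S, Q ^ j) o =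
      dOrb K Q o * (gx θ Q x o ^ (r / dOrb K Q o)).coeff a := by
  classical
  have := Fintype.ofFinite {y : Kˣ // (Quotient.mk (orbSetoid K Q) y) = o}
  simp only [thA, finsum_eq_sum_of_fintype]
  rw [Finset.sum_comm]
  have h1 : ∀ y : {y : Kˣ // (Quotient.mk (orbSetoid K Q) y) = o},
      ∑ S ∈ (Finset.range r).powersetCard a, θ ((y : Kˣ) : K) ^ (x * ∑ j ∈ S, Q ^ j) =
        (gx θ Q x o ^ (r / dOrb K Q o)).coeff a := by
    rintro ⟨y, hy⟩
    simp only []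
    have h2 : ∀ S : Finset ℕ, θ (y : K) ^ (x * ∑ j ∈ S, Q ^ j) = ∏ j ∈ S, θ (y : K) ^ (x * Q ^ j) := by
      intro S
      rw [Finset.mul_sum]
      induction S using Finset.induction_on with
      | empty => rw [Finset.sum_empty, Finset.prod_empty, zpow_zero]
      | insert j S hj ih => rw [Finset.sum_insert hj, Finset.prod_insert hj, zpow_add₀ (theta_ne θ y), ih]
    rw [Finset.sum_congr rfl fun S _ => h2 S, ← coeff_prod_one_add]
    congr 1
    obtain ⟨m, rfl⟩ := hr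
    rw [Nat.mul_div_cancel_left _ (dOrb_pos o), prod_periodic]
    · congr 1
      obtain ⟨e, he⟩ := orb_equiv hM hQ hy
      rw [gx, finprod_eq_prod_of_fintype, ← Fintype.prod_equiv e (fun i => 1 + C (θ (y : K) ^ (x * Q ^ (i : ℕ))) * X)
        (fun z => 1 + C (θ ((z : Kˣ) : K) ^ x) * X) (fun i => by rw [he, theta_pow]), Finset.prod_range]
    · intro j
      have h3 : θ (y : K) ^ (x * Q ^ (j + dOrb K Q o)) = θ (y : K) ^ (x * Q ^ j) := by
        rw [← theta_pow θ y x (Q ^ (j + dOrb K Q o)), ← theta_pow θ y x (Q ^ j), add_comm j, pow_add, zpow_mul,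
          pow_dOrb hM hQ hy]
      rw [h3]
  rw [Finset.sum_congr rfl fun y _ => h1 y, Finset.sum_const, nsmul_eq_mul, Finset.card_univ, dOrb,
    Nat.card_eq_fintype_card]

/-- the theta sums depend on the exponent modulo `Q ^ k - 1` -/
theorem thA_congr (hM : Nat.card Kˣ = M) (hQ : IsUnit (Q : ZMod M)) {o : Orb K Q} {k : ℕ} (hk : dOrb K Q o ∣ k)
    {a b : ℤ} (hab : Q ^ k - 1 ∣ a - b) : thA θ Q a o = thA θ Q b o := by
  unfold thA
  refine finsum_congr fun y => ?_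
  obtain ⟨s, hs⟩ := hab
  have h1 : a = b + (Q ^ k - 1) * s := by linarith
  have h2 : θ (((y : Kˣ)) : K) ^ (Q ^ k - 1) = 1 := by
    have h3 := pow_of_dvd hM hQ y.2 hk
    rw [zpow_sub₀ (theta_ne θ _), zpow_one, ← map_zpow₀, ← Units.val_zpow_eq_zpow_val, h3,
      div_self (theta_ne θ _)]
  rw [h1, zpow_add₀ (theta_ne θ _), zpow_mul, h2, one_zpow, mul_one]

theorem thA_Q (hM : Nat.card Kˣ = M) (hQ : IsUnit (Q : ZMod M)) (o : Orb K Q) (a : ℤ) :
    thA θ Q (Q * a) o = thA θ Q a o := by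
  classical
  have := Fintype.ofFinite {y : Kˣ // (Quotient.mk (orbSetoid K Q) y) = o}
  obtain ⟨L, hL, hper⟩ := exists_period (K := K) hM hQ
  have hmem : ∀ y : {y : Kˣ // (Quotient.mk (orbSetoid K Q) y) = o}, ∀ j : ℕ,
      Quotient.mk (orbSetoid K Q) ((y : Kˣ) ^ (Q ^ j)) = o := fun y j => by
    conv_rhs => rw [← y.2]
    exact (mk_eq_iff hM hQ _ _).2 ⟨j, rfl⟩
  let e : {y : Kˣ // (Quotient.mk (orbSetoid K Q) y) = o} ≃ {y : Kˣ // (Quotient.mk (orbSetoid K Q) y) = o} :=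
    { toFun := fun y => ⟨(y : Kˣ) ^ (Q ^ 1), hmem y 1⟩
      invFun := fun y => ⟨(y : Kˣ) ^ (Q ^ (L - 1)), hmem y (L - 1)⟩
      left_inv := fun y => Subtype.ext (by
        show ((y : Kˣ) ^ (Q ^ 1)) ^ (Q ^ (L - 1)) = y
        rw [← zpow_mul, ← pow_add, Nat.add_sub_cancel' hL, hper])
      right_inv := fun y => Subtype.ext (by
        show ((y : Kˣ) ^ (Q ^ (L - 1))) ^ (Q ^ 1) = y
        rw [← zpow_mul, ← pow_add, Nat.sub_add_cancel hL, hper]) }
  rw [thA, thA, finsum_eq_sum_of_fintype, finsum_eq_sum_of_fintype]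
  refine Fintype.sum_equiv e _ _ fun y => ?_
  show θ ((y : Kˣ) : K) ^ (Q * a) = θ ((((y : Kˣ) ^ (Q ^ 1) : Kˣ)) : K) ^ a
  rw [theta_pow, pow_one, mul_comm]

theorem thO_eq (k : ℕ) (c : ZMod M) (o : Orb K Q) : thO θ Q M k c o = thA θ Q (expoZ Q M k c) o := rfl

/-- exactness of the division in the exponent -/
theorem expoZ_mul [NeZero M] {k : ℕ} {c : ZMod M} (hc : TorZ Q M k c) :
    expoZ Q M k c * M = c.val * (Q ^ k - 1) := by
  unfold expoZ
  refine Int.ediv_mul_cancel ?_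
  have h1 : (((c.val : ℤ) * (Q ^ k - 1) : ℤ) : ZMod M) = 0 := by
    push_cast
    rw [ZMod.natCast_zmod_val, mul_comm]
    exact hc
  exact (ZMod.intCast_zmod_eq_zero_iff_dvd _ _).1 h1

/-- the exponent of a label given by an integer -/
theorem expoZ_intCast [NeZero M] {k : ℕ} (hk : Q ^ k - 1 ∣ (M : ℤ)) (a : ℤ) :
    Q ^ k - 1 ∣ expoZ Q M k (((a * ((M : ℤ) / (Q ^ k - 1)) : ℤ)) : ZMod M) - a := by
  set c : ZMod M := (((a * ((M : ℤ) / (Q ^ k - 1)) : ℤ)) : ZMod M) with hc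
  have hM0 : (M : ℤ) ≠ 0 := by exact_mod_cast NeZero.ne M
  have h0 : (Q ^ k - 1) * ((M : ℤ) / (Q ^ k - 1)) = M := Int.mul_ediv_cancel' hk
  have hT : TorZ Q M k c := by
    rw [TorZ, hc]
    have h1 : ((Q : ZMod M) ^ k - 1) * (((a * ((M : ℤ) / (Q ^ k - 1)) : ℤ)) : ZMod M) =
        (((Q ^ k - 1) * (a * ((M : ℤ) / (Q ^ k - 1))) : ℤ) : ZMod M) := by push_cast; ring
    rw [h1, ZMod.intCast_zmod_eq_zero_iff_dvd]
    exact ⟨a, by linear_combination a * h0⟩
  have h1 : (M : ℤ) ∣ (c.val : ℤ) - a * ((M : ℤ) / (Q ^ k - 1)) := by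
    rw [← ZMod.intCast_zmod_eq_zero_iff_dvd]
    push_cast
    rw [ZMod.natCast_zmod_val, hc]
    push_cast
    ring
  obtain ⟨s, hs⟩ := h1
  refine ⟨s, ?_⟩
  have h2 := expoZ_mul hT
  apply mul_right_cancel₀ hM0
  rw [sub_mul, h2]
  linear_combination (Q ^ k - 1) * hs + a * h0

theorem TorZ_intCast {k : ℕ} (hk : Q ^ k - 1 ∣ (M : ℤ)) (a : ℤ) :
    TorZ Q M k (((a * ((M : ℤ) / (Q ^ k - 1)) : ℤ)) : ZMod M) := by
  rw [TorZ]
  have h0 : (Q ^ k - 1) * ((M : ℤ) / (Q ^ k - 1)) = M := Int.mul_ediv_cancel' hk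
  have h1 : ((Q : ZMod M) ^ k - 1) * (((a * ((M : ℤ) / (Q ^ k - 1)) : ℤ)) : ZMod M) =
      (((Q ^ k - 1) * (a * ((M : ℤ) / (Q ^ k - 1))) : ℤ) : ZMod M) := by push_cast; ring
  rw [h1, ZMod.intCast_zmod_eq_zero_iff_dvd]
  exact ⟨a, by linear_combination a * h0⟩

/-- `thO` is invariant under the action of `Q` on the labels -/
theorem thO_pow (hM : Nat.card Kˣ = M) [NeZero M] (hQ : IsUnit (Q : ZMod M)) {k : ℕ} {c : ZMod M}
    (hc : TorZ Q M k c) {o : Orb K Q} (hk : dOrb K Q o ∣ k) (j : ℕ) :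
    thO θ Q M k ((Q : ZMod M) ^ j * c) o = thO θ Q M k c o := by
  have hM0 : (M : ℤ) ≠ 0 := by exact_mod_cast NeZero.ne M
  have key : ∀ c : ZMod M, TorZ Q M k c → thO θ Q M k ((Q : ZMod M) * c) o = thO θ Q M k c o := by
    intro c hc
    have hc' : TorZ Q M k ((Q : ZMod M) * c) := by
      rw [TorZ] at hc ⊢
      rw [mul_left_comm, hc, mul_zero]
    rw [thO_eq, thO_eq, ← thA_Q θ hM hQ o (expoZ Q M k c)]
    refine thA_congr θ hM hQ hk ?_
    have h1 : (M : ℤ) ∣ (((Q : ZMod M) * c).val : ℤ) - Q * c.val := by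
      rw [← ZMod.intCast_zmod_eq_zero_iff_dvd]
      push_cast
      rw [ZMod.natCast_zmod_val, ZMod.natCast_zmod_val, sub_self]
    obtain ⟨s, hs⟩ := h1
    refine ⟨s, ?_⟩
    have h2 := expoZ_mul hc
    have h3 := expoZ_mul hc'
    apply mul_right_cancel₀ hM0
    rw [sub_mul, h3, mul_assoc, h2]
    linear_combination (Q ^ k - 1) * hs
  induction j with
  | zero => rw [pow_zero, one_mul]
  | succ j ih =>
    rw [pow_succ', mul_assoc, key, ih]
    rw [TorZ] at hc ⊢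
    rw [mul_left_comm, hc, mul_zero]

theorem Pop_pow (hM : Nat.card Kˣ = M) [NeZero M] (hQ : IsUnit (Q : ZMod M)) {k : ℕ} {c : ZMod M}
    (hc : TorZ Q M k c) (j : ℕ) : Pop θ Q M k ((Q : ZMod M) ^ j * c) = Pop θ Q M k c := by
  classical
  rw [Pop_eq, Pop_eq]
  refine Finset.sum_congr rfl fun o _ => ?_
  split_ifs with h
  · rw [thO_pow θ hM hQ hc h.2]
  · rfl

theorem Pop_canon (hM : Nat.card Kˣ = M) [NeZero M] (hQ : IsUnit (Q : ZMod M)) {k : ℕ} {c : ZMod M}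
    (hc : TorZ Q M k c) : Pop θ Q M k (canon Q M c) = Pop θ Q M k c := by
  have h : ∃ j : ℕ, canon Q M c = (Q : ZMod M) ^ j * c := by
    have hne : {n : ℕ | ∃ j : ℕ, n = ((Q : ZMod M) ^ j * c).val}.Nonempty := ⟨_, 0, rfl⟩
    obtain ⟨j, hj⟩ := Nat.sInf_mem hne
    refine ⟨j, ?_⟩
    rw [canon]
    conv_lhs => rw [hj]
    rw [ZMod.natCast_zmod_val]
  obtain ⟨j, hj⟩ := h
  rw [hj, Pop_pow θ hM hQ hc]

end Theta

/-! ### the exterior powers -/

section Main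

variable {K : Type*} [Field K] [Finite K] (θ : K →*₀ ℂ) {Q : ℤ} {M N : ℕ}

/-- a cuspidal variable acts as the cuspidal operator -/
theorem evR_rv_mul (h2 : I2S) (hM : Nat.card Kˣ = M) [NeZero M] (hQ : IsUnit (Q : ZMod M)) {k : ℕ} (hk : 0 < k)
    {c : ZMod M} (hc : TorZ Q M k c) (x : RS M) :
    evR θ Q M (rv Q M k c * x) = Pop θ Q M k c (evR θ Q M x) := by
  rw [rv, if_pos ⟨hk, hc⟩, evR_X_mul θ Q M h2]
  rw [Pop_canon θ hM hQ hc]

/-- the sum of the cuspidal operators -/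
theorem sum_Pop (hM : Nat.card Kˣ = M) [NeZero M] (hQ : IsUnit (Q : ZMod M)) {r : ℕ} (hr : 0 < r)
    (hdvd : Q ^ r - 1 ∣ (M : ℤ)) (x : ℤ) (a : ℕ) :
    ∑ S ∈ (Finset.range r).powersetCard a,
      Pop θ Q M r (((x * (∑ j ∈ S, Q ^ j) * ((M : ℤ) / (Q ^ r - 1)) : ℤ)) : ZMod M) =
        PQ (dOrb K Q) Q (gx θ Q x) r a := by
  classical
  simp only [Pop_eq]
  rw [Finset.sum_comm, PQ]
  refine Finset.sum_congr rfl fun o _ => ?_
  by_cases ho : dOrb K Q o ∣ r
  · simp only [if_pos (show 0 < r ∧ dOrb K Q o ∣ r from ⟨hr, ho⟩), if_pos ho]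
    rw [← Finset.sum_smul, ← sum_thA θ hM hQ x o ho a]
    congr 1
    refine Finset.sum_congr rfl fun S _ => ?_
    rw [thO_eq]
    exact thA_congr θ hM hQ ho (expoZ_intCast hdvd _)
  · simp only [if_neg (show ¬ (0 < r ∧ dOrb K Q o ∣ r) from fun h => ho h.2), if_neg ho]
    exact Finset.sum_const_zero

/-- **The exterior powers act as the necklace operators.** -/
theorem evR_En (h2 : I2S) (hM : Nat.card Kˣ = M) [NeZero M] (hQ : IsUnit (Q : ZMod M))
    (hdvd : ∀ k, 0 < k → k ≤ N → Q ^ k - 1 ∣ (M : ℤ)) (x : ℤ) (y : RS M) : ∀ n ≤ N, ∀ k : ℕ,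
    evR θ Q M (H421.GLn.En Q M n k x * y) = Eop (dOrb K Q) Q (gx θ Q x) n k (evR θ Q M y) := by
  classical
  intro n
  induction n using Nat.strong_induction_on with
  | _ n ih =>
    intro hn k
    rcases Nat.eq_zero_or_pos n with rfl | hn0
    · rw [H421.GLn.En_zero, Eop_zero _ _ _ dOrb_pos]
      split_ifs
      · rw [one_mul, Module.End.one_apply]
      · rw [zero_mul, map_zero, LinearMap.zero_apply]
    have h1 := H421.GLn.En_rec (Q := Q) (M := M) n k x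
    have h3 := Eop_rec (dOrb K Q) Q (gx θ Q x) dOrb_pos n k
    have hne : (n : ℂ) ≠ 0 := Nat.cast_ne_zero.2 hn0.ne'
    have h4 : (n : ℂ) • evR θ Q M (H421.GLn.En Q M n k x * y) =
        (n : ℂ) • Eop (dOrb K Q) Q (gx θ Q x) n k (evR θ Q M y) := by
      rw [← map_smul, Nat.cast_smul_eq_nsmul, nsmul_eq_mul, ← mul_assoc, h1, Nat.cast_smul_eq_nsmul,
        ← LinearMap.smul_apply, h3, Finset.sum_range_succ']
      simp only [PQ_zero, zero_mul, Finset.sum_const_zero, add_zero]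
      rw [Finset.sum_mul, map_sum, LinearMap.sum_apply]
      refine Finset.sum_congr rfl fun i hi => ?_
      rw [Finset.mem_range] at hi
      rw [Finset.sum_mul, map_sum, LinearMap.sum_apply]
      refine Finset.sum_congr rfl fun w _ => ?_
      have hd' := hdvd (i + 1) i.succ_pos (by omega)
      rw [Module.End.mul_apply, Nat.sub_sub, Nat.add_comm 1 i, ← ih (n - (i + 1)) (by omega) (by omega) w.2,
        ← sum_Pop θ hM hQ i.succ_pos hd' x w.1, LinearMap.sum_apply, mul_assoc, Finset.sum_mul, map_sum]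
      refine Finset.sum_congr rfl fun S _ => ?_
      rw [H421.GLn.Prs, evR_rv_mul θ h2 hM hQ i.succ_pos (TorZ_intCast hd' _)]
    exact smul_right_injective _ hne h4

end Main

/-! ### R3 -/

section R3

variable {K : Type*} [Field K] {θ : K →*₀ ℂ} {Q : ℤ} {M N : ℕ}
variable {G : ℕ → Type u} [∀ n, Group (G n)] [∀ n, Finite (G n)]
  {T : ∀ n, n ≤ N → TypeData (dOrb K Q) Q (G n) n}

/-- the elementary symmetric functions of the lifted eigenvalues are generalized characters -/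
def EInt (θ : K →*₀ ℂ) (T : ∀ n, n ≤ N → TypeData (dOrb K Q) Q (G n) n) : Prop :=
  ∀ (x : ℤ) (n k : ℕ), GC T n (fun lam => (Wt (gx θ Q x) (sz lam)).coeff k)

/-- the Weil kernels are generalized characters -/
def WInt (T : ∀ n, n ≤ N → TypeData (dOrb K Q) Q (G n) n) : Prop :=
  ∀ n m (hn : n ≤ N) (hm : m ≤ N), IsGeneralizedCharacter (G n × G m) fun x =>
    (Q.sign : ℂ) ^ (n * m) * (Q : ℂ) ^ tip (dOrb K Q) ((T n hn).typ x.1) ((T m hm).typ x.2⁻¹)

theorem CtxQ.neM (ctx : CtxQ θ Q M N) : NeZero M := ⟨by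
  have := ctx.finK
  rw [← ctx.card]
  exact (Nat.card_pos (α := Kˣ)).ne'⟩

theorem finite_tdeg (ctx : CtxQ θ Q M N) (n : ℕ) : {lam : Ty (Orb K Q) | tdeg (dOrb K Q) lam = n}.Finite := by
  have := ctx.finK
  have h1 : Finite (Orb K Q) := inferInstance
  exact H315.GU.finite_tofDeg (dOrb K Q) dOrb_pos (fun n => Set.toFinite _) n

theorem R3_one (ctx : CtxQ θ Q M N) (n : ℕ) : GC T n (evR θ Q M 1) := by
  rw [evR_one]
  rcases Nat.eq_zero_or_pos n with rfl | hn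
  · refine (GC.one (T := T) (n := 0)).congr fun lam hlam => ?_
    have := ctx.finK
    rw [vac, if_pos]
    ext1 o
    have h3 := mul_le_vdeg (dOrb K Q) (sz lam) o
    rw [vdeg_sz, sz_apply, hlam] at h3
    have h4 : (lam o).size = 0 := by
      have := (Nat.le_mul_of_pos_left _ (dOrb_pos o)).trans h3
      omega
    rw [Finsupp.coe_zero, Pi.zero_apply]
    exact (col_eq_of_le (k := 0) (l := lam o) (fun i => Nat.zero_le _) (by rw [h4, Col.size_zero])).symm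
  · refine (GC.zero (T := T) (n := n)).congr fun lam hlam => ?_
    rw [vac, if_neg]
    · rfl
    · rintro rfl
      rw [tdeg, Finsupp.sum_zero_index] at hlam
      omega

/-- **R3**: the exterior powers preserve generalized characters -/
theorem R3_ext (h2 : I2S) (ctx : CtxQ θ Q M N) (hE : EInt θ T) (hW : WInt T) {y : RS M}
    (hy : ∀ n, GC T n (evR θ Q M y)) {r : ℕ} (hr : r ≤ N) (k : ℕ) (x : ℤ) (n : ℕ) :
    GC T n (evR θ Q M (H421.GLn.En Q M r k x * y)) := by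
  have := ctx.finK
  have := CtxQ.neM ctx
  rw [evR_En θ h2 ctx.card ctx.unit ctx.dvd x y r hr k]
  exact gc_Eop' dOrb_pos ctx.two (finite_tdeg ctx) hW (gx_coeff_zero θ x) (hE x) hy r k n

end R3

end Cfsg.Agent.H531.GU
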