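import Cfsg.Agent.H531.GU.Neck
import Cfsg.Agent.H501.GLn.Ext
import Mathlib.LinearAlgebra.Eigenspace.Zero

/-!
# S4537 (T2): the elementary symmetric functions of the lifted eigenvalues (helper531)

* `size_mcol` : the size of the columns at `y` is the multiplicity of the eigenvalue `y`;
* `coeff_Wt` : the coefficients of `Wt (gx x) (sz lam)` are the elementary symmetric functions of the `θ(y)^x`,
  `y` an eigenvalue of a matrix of type `lam`;
* `eInt_of` : `EInt θ T` if `T` is given by the columns of matrices.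
-/

set_option autoImplicit false
set_option linter.unusedSectionVars false

open scoped ComplexConjugate
open Cfsg Cfsg.Agent.H615.GU Cfsg.Agent.H315.GU Cfsg.Agent.H577.GLB.Std
open Cfsg.Agent.OddOrderCharacters.VChar

universe u w

namespace Cfsg.Agent.H531.GU

open Polynomial Module

section mult

variable {F : Type u} [Field F] {K : Type w} [Field K] [Algebra F K] {n : ℕ}

theorem sum_colOf {V : Type*} [AddCommGroup V] [Module K V] [Module.Finite K V] (T : V →ₗ[K] V) (j : ℕ) :
    ∑ i ∈ Finset.range j, colOf T i = finrank K (LinearMap.ker (T ^ j)) := by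
  induction j with
  | zero =>
    rw [Finset.sum_range_zero, pow_zero]
    have h : LinearMap.ker (1 : End K V) = ⊥ := LinearMap.ker_id
    rw [h, finrank_bot]
  | succ j ih => rw [Finset.sum_range_succ, ih, add_comm, colOf_add]

/-- the multiplicity of an eigenvalue -/
theorem size_mcol (A : Matrix (Fin n) (Fin n) F) (y : K) :
    (mcol A y).size = (A.charpoly.map (algebraMap F K)).rootMultiplicity y := by
  have h1 : (Matrix.toLin' (A.map (algebraMap F K) - Matrix.scalar (Fin n) y)) =
      Matrix.toLin' (A.map (algebraMap F K)) - y • 1 := by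
    rw [map_sub]
    congr 1
    refine LinearMap.ext fun v => ?_
    rw [Matrix.toLin'_apply, Matrix.scalar_apply, ← Matrix.smul_one_eq_diagonal, Matrix.smul_mulVec,
      Matrix.one_mulVec]
    rfl
  set b := max (mcol A y).size n with hb
  have h2 : (mcol A y).size = ∑ i ∈ Finset.range b, mcol A y i := Col.size_eq_sum_range (le_max_left _ _)
  have h3 : finrank K (Fin n → K) ≤ b := by
    rw [Module.finrank_fin_fun]
    exact le_max_right _ _
  rw [h2]
  show ∑ i ∈ Finset.range b, colOf (Matrix.toLin' (A.map (algebraMap F K) - Matrix.scalar (Fin n) y)) i = _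
  rw [sum_colOf, h1, ← Module.End.genEigenspace_nat, Module.End.genEigenspace_eq_genEigenspace_finrank_of_le _ _ h3,
    ← Module.End.maxGenEigenspace_eq_genEigenspace_finrank, LinearMap.finrank_maxGenEigenspace_eq,
    Matrix.charpoly_toLin', Matrix.charpoly_map]

end mult

section esymm

/-- the elementary symmetric functions as coefficients -/
theorem coeff_prod_esymm (s : Multiset ℂ) (k : ℕ) : ((s.map fun y => (1 + C y * X : ℂ[X])).prod).coeff k = s.esymm k := by
  induction s using Multiset.induction_on generalizing k with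
  | empty =>
    rw [Multiset.map_zero, Multiset.prod_zero, coeff_one]
    cases k with
    | zero => rw [H501.GLn.esymm_zero', if_pos rfl]
    | succ k =>
      rw [if_neg (Nat.succ_ne_zero k), H501.GLn.esymm_of_card_lt]
      rw [Multiset.card_zero]
      exact k.succ_pos
  | cons a s ih =>
    rw [Multiset.map_cons, Multiset.prod_cons, add_mul, one_mul, mul_assoc, coeff_add, coeff_C_mul]
    cases k with
    | zero => rw [coeff_X_mul_zero, mul_zero, add_zero, ih, H501.GLn.esymm_zero', H501.GLn.esymm_zero']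
    | succ k => rw [coeff_X_mul, ih, ih, H501.GLn.esymm_cons]

end esymm

section wt

variable {F : Type u} [Field F] {K : Type w} [Field K] [Finite K] [Algebra F K] (θ : K →*₀ ℂ) {Q : ℤ} {n : ℕ}

theorem Wt_eq_prod (x : ℤ) (v : Orb K Q →₀ ℕ) : Wt (gx θ Q x) v =
    ∏ᶠ y : Kˣ, (1 + C (θ (y : K) ^ x) * X) ^ v (Quotient.mk (orbSetoid K Q) y) := by
  classical
  have := Fintype.ofFinite Kˣ
  rw [finprod_eq_prod_of_fintype, Wt, Finsupp.prod_fintype _ _ (fun i => pow_zero _),
    ← Finset.prod_fiberwise_of_maps_to (s := (Finset.univ : Finset Kˣ)) (t := (Finset.univ : Finset (Orb K Q)))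
      (g := fun y => Quotient.mk (orbSetoid K Q) y) (fun _ _ => Finset.mem_univ _)]
  refine Finset.prod_congr rfl fun o _ => ?_
  have := Fintype.ofFinite {y : Kˣ // (Quotient.mk (orbSetoid K Q) y) = o}
  rw [gx, finprod_eq_prod_of_fintype, ← Finset.prod_pow]
  have h1 : ∀ y ∈ Finset.univ.filter (fun y : Kˣ => Quotient.mk (orbSetoid K Q) y = o),
      (1 + C (θ (y : K) ^ x) * X) ^ v (Quotient.mk (orbSetoid K Q) y) = (1 + C (θ (y : K) ^ x) * X : ℂ[X]) ^ v o := by
    intro y hy
    rw [(Finset.mem_filter.1 hy).2]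
  rw [Finset.prod_congr rfl h1]
  symm
  exact Finset.prod_subtype _ (fun y => by rw [Finset.mem_filter]; exact ⟨fun h => h.2, fun h => ⟨Finset.mem_univ _, h⟩⟩) _

/-- the coefficients of the weight are the elementary symmetric functions of the lifted eigenvalues -/
theorem coeff_Wt (A : Matrix (Fin n) (Fin n) F) (hA : A.charpoly.coeff 0 ≠ 0) {lam : Ty (Orb K Q)}
    (hlam : ∀ y : Kˣ, lam (Quotient.mk (orbSetoid K Q) y) = mcol A (y : K)) (x : ℤ) (k : ℕ) :
    (Wt (gx θ Q x) (sz lam)).coeff k =
      ((A.charpoly.map (algebraMap F K)).roots.map fun y => θ y ^ x).esymm k := by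
  classical
  have := Fintype.ofFinite Kˣ
  set P := A.charpoly.map (algebraMap F K) with hP
  have hP0 : P ≠ 0 := ((Matrix.charpoly_monic A).map _).ne_zero
  have h0 : (0 : K) ∉ P.roots := by
    intro h
    rw [mem_roots hP0, IsRoot.def, ← coeff_zero_eq_eval_zero, hP, coeff_map, map_eq_zero] at h
    exact hA h
  rw [← coeff_prod_esymm, Multiset.map_map]
  congr 1
  rw [Wt_eq_prod, finprod_eq_prod_of_fintype, Finset.prod_multiset_map_count]
  have h1 : ∀ y : Kˣ, (1 + C (θ (y : K) ^ x) * X) ^ (sz lam (Quotient.mk (orbSetoid K Q) y)) =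
      (fun z : K => ((1 + C (θ z ^ x) * X : ℂ[X])) ^ P.roots.count z) (y : K) := by
    intro y
    simp only []
    rw [sz_apply, hlam, size_mcol, count_roots]
  rw [Finset.prod_congr rfl fun y _ => h1 y]
  rw [← Finset.prod_image (s := (Finset.univ : Finset Kˣ)) (g := fun y : Kˣ => (y : K))
    (f := fun z : K => ((1 + C (θ z ^ x) * X : ℂ[X])) ^ P.roots.count z) (fun a _ b _ h => Units.ext h)]
  symm
  refine Finset.prod_subset ?_ ?_
  · intro z hz
    rw [Multiset.mem_toFinset] at hz
    rw [Finset.mem_image]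
    have hz0 : z ≠ 0 := fun h => h0 (h ▸ hz)
    exact ⟨Units.mk0 z hz0, Finset.mem_univ _, rfl⟩
  · intro z _ hz
    rw [Multiset.mem_toFinset] at hz
    rw [Multiset.count_eq_zero_of_notMem hz, pow_zero]

end wt

section main

variable {F : Type u} [Field F] {K : Type w} [Field K] [Algebra F K] {θ : K →*₀ ℂ} {Q : ℤ} {M N M' : ℕ}
variable {G : ℕ → Type u} [∀ n, Group (G n)] [∀ n, Finite (G n)]
  {T : ∀ n, n ≤ N → TypeData (dOrb K Q) Q (G n) n}

/-- **T2**: the elementary symmetric functions of the lifted eigenvalues are generalized characters. -/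
theorem eInt_of (C : H614.GLn.Ctx F θ N M') (ρ : ∀ n, G n →* GL (Fin n) F)
    (hT : ∀ n (hn : n ≤ N) (g : G n) (y : Kˣ),
      (T n hn).typ g (Quotient.mk (orbSetoid K Q) y) = mcol ((ρ n g : Matrix (Fin n) (Fin n) F)) (y : K)) :
    EInt θ T := by
  intro x n k hn
  have := C.finK
  have := C.finF
  -- a natural exponent
  obtain ⟨x', hx'⟩ : ∃ x' : ℕ, ∀ y : K, y ≠ 0 → θ y ^ x = θ y ^ x' := by
    set m : ℕ := Nat.card Kˣ with hm
    have hm0 : 0 < m := Nat.card_pos
    refine ⟨(x % m).toNat, fun y hy => ?_⟩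
    have h1 : θ y ^ (m : ℤ) = 1 := by
      have h2 : (Units.mk0 y hy) ^ m = 1 := pow_card_eq_one'
      have h3 : y ^ m = 1 := by
        have := congrArg Units.val h2
        rwa [Units.val_pow_eq_pow_val, Units.val_mk0, Units.val_one] at this
      rw [zpow_natCast, ← map_pow, h3, map_one]
    have h2 : ((x % m).toNat : ℤ) = x % m := Int.toNat_of_nonneg (Int.emod_nonneg _ (by omega))
    have h3 : x = x % m + m * (x / m) := (Int.emod_add_mul_ediv x m).symm
    have hne : θ y ≠ 0 := by
      rw [Ne, map_eq_zero]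
      exact hy
    conv_lhs => rw [h3]
    rw [zpow_add₀ hne, zpow_mul, h1, one_zpow, mul_one, ← h2, zpow_natCast]
    simp only [Int.toNat_natCast]
  have h1 := H501.GLn.eB_generalized θ C x' k (Fin n → F) (by rw [Module.finrank_fin_fun]; exact hn)
  let f : G n →* ((Fin n → F) →ₗ[F] (Fin n → F))ˣ :=
    (Matrix.GeneralLinearGroup.toLin (n := Fin n) (R := F)).toMonoidHom.comp (ρ n)
  have h2 := gen_comp f h1
  convert h2 using 1
  funext g
  have h3 : LinearMap.charpoly ((f g : ((Fin n → F) →ₗ[F] (Fin n → F))ˣ) : (Fin n → F) →ₗ[F] (Fin n → F)) =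
      (ρ n g : Matrix (Fin n) (Fin n) F).charpoly := by
    rw [← Matrix.charpoly_toLin']
    rfl
  have h4 : (ρ n g : Matrix (Fin n) (Fin n) F).charpoly.coeff 0 ≠ 0 := by
    intro h
    have h5 := Matrix.det_eq_sign_charpoly_coeff (ρ n g : Matrix (Fin n) (Fin n) F)
    rw [h, mul_zero] at h5
    exact ((Matrix.isUnit_iff_isUnit_det _).1 (ρ n g).isUnit).ne_zero h5
  show _ = H501.GLn.eB θ x' k (LinearMap.charpoly ((f g : ((Fin n → F) →ₗ[F] (Fin n → F))ˣ) : (Fin n → F) →ₗ[F] (Fin n → F)))
  rw [h3, H501.GLn.eB, if_neg h4]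
  show (Wt (gx θ Q x) (sz ((T n hn).typ g))).coeff k = _
  rw [coeff_Wt θ _ h4 (hT n hn g) x k, H501.GLn.tm]
  congr 1
  refine Multiset.map_congr rfl fun y hy => hx' y ?_
  rintro rfl
  rw [mem_roots ((Matrix.charpoly_monic _).map _).ne_zero, IsRoot.def, ← coeff_zero_eq_eval_zero, coeff_map,
    map_eq_zero] at hy
  exact h4 hy

end main

end Cfsg.Agent.H531.GU
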