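import Cfsg.Agent.H531.GU.Loc

/-!
# S4537, F4 (local): Mackey and Heisenberg relations (helper531)

* `I3S` : the statement (I3);
* `us_uu` : `us a * uu b = ∑ w, cc w • uu (b - w) * us (a - w)`;
* `kap t r = 1 / (t ^ r - 1)`; `cc_newton` : `m cc_m = ∑ r, kap r * cc (m - r)`;
* `ps_uu`, `ps_pp` : the Heisenberg relations.
-/

set_option autoImplicit false
set_option linter.unusedSectionVars false

open scoped ComplexConjugate
open Cfsg Cfsg.Agent.H615.GU Cfsg.Agent.H315.GU

namespace Cfsg.Agent.H531.GU

/-- `t` is not zero and not a root of unity -/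
def Gen (t : ℂ) : Prop := t ≠ 0 ∧ ∀ i : ℕ, 0 < i → t ^ i ≠ 1

/-- (I3) -/
def I3S : Prop := ∀ (t : ℂ), Gen t → ∀ (n m : Col) (N : ℕ),
  ∑ l ∈ Col.ofSize N, ev t (Np l n) * ev t (Np l m) / ev t (ap l) =
    (ev t (ap n) * ev t (ap m))⁻¹ *
      ∑ k ∈ (Col.below n).filter (fun k => n.size + m.size ≤ N + k.size),
        ev t (Np n k) * ev t (Np m k) * ev t (ap k) * cc t (N + k.size - n.size - m.size)

section Mackey

variable {t : ℂ}

theorem ap_ne (ht : Gen t) (l : Col) : ev t (ap l) ≠ 0 := H521.GU.ev_ap_ne_zero ht.1 ht.2 l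

theorem Np_zero (t : ℂ) {l k : Col} (h : ¬ k ≤ l) : ev t (Np l k) = 0 := by
  rw [H521.GU.Np_eq_zero h, H315.GU.ev_zero]

theorem us_uu (h3 : I3S) (ht : Gen t) (a b : ℕ) :
    us t a * uu t b = ∑ w ∈ Finset.range (min a b + 1), cc t w • (uu t (b - w) * us t (a - w)) := by
  classical
  refine LinearMap.ext fun f => funext fun k => ?_
  rw [Module.End.mul_apply]
  simp only [LinearMap.sum_apply, Finset.sum_apply, LinearMap.smul_apply, Pi.smul_apply, smul_eq_mul,
    Module.End.mul_apply]
  -- the finite set of the `c`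
  set C : Finset Col := (Col.ofSize (k.size + a - b)).filter (fun c => c.size + b = k.size + a) with hC
  have hmemC : ∀ c : Col, c ∈ C ↔ c.size + b = k.size + a := by
    intro c
    rw [hC, Finset.mem_filter, Col.mem_ofSize]
    constructor
    · exact fun h => h.2
    · exact fun h => ⟨by omega, h⟩
  have hL : us t a (uu t b f) k = ∑ e ∈ Col.below k, ∑ c ∈ C, if c.size ≤ a + e.size then
      ev t (Np k e) * ev t (Np c e) * ev t (ap e) * (f c / ev t (ap c)) * cc t (a + e.size - c.size) else 0 := by
    rw [us_apply]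
    have h1 : ∀ l ∈ Col.ofSize (k.size + a), ev t (Np l k) * uu t b f l / ev t (ap l) =
        ∑ c ∈ C, ev t (Np l k) * ev t (Np l c) / ev t (ap l) * f c := by
      intro l hl
      rw [Col.mem_ofSize] at hl
      have h2 : uu t b f l = ∑ c ∈ C, ev t (Np l c) * f c := by
        rw [uu_apply]
        refine Finset.sum_subset_zero_on_sdiff ?_ ?_ fun _ _ => rfl
        · intro c hc
          rw [Finset.mem_filter] at hc
          rw [hmemC, ← hl]
          exact hc.2
        · intro c hc
          rw [Finset.mem_sdiff, hmemC, Finset.mem_filter, Col.mem_below] at hc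
          have h4 : ¬ c ≤ l := fun h => hc.2 ⟨h, by omega⟩
          rw [Np_zero t h4, zero_mul]
      rw [h2, Finset.mul_sum, Finset.sum_div]
      exact Finset.sum_congr rfl fun c _ => by ring
    rw [Finset.sum_congr rfl h1, Finset.sum_comm, Finset.mul_sum]
    have h5 : ∀ c ∈ C, ev t (ap k) * ∑ l ∈ Col.ofSize (k.size + a), ev t (Np l k) * ev t (Np l c) / ev t (ap l) * f c =
        ∑ e ∈ Col.below k, if c.size ≤ a + e.size then
          ev t (Np k e) * ev t (Np c e) * ev t (ap e) * (f c / ev t (ap c)) * cc t (a + e.size - c.size) else 0 := by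
      intro c _
      rw [← Finset.sum_mul, h3 t ht k c (k.size + a), Finset.sum_filter]
      have hk := ap_ne ht k
      have hc := ap_ne ht c
      have e1 : ∀ X : ℂ, ev t (ap k) * ((ev t (ap k) * ev t (ap c))⁻¹ * X * f c) = X * (f c / ev t (ap c)) := by
        intro X
        field_simp
      rw [e1, Finset.sum_mul]
      refine Finset.sum_congr rfl fun e _ => ?_
      by_cases h : c.size ≤ a + e.size
      · rw [if_pos h, if_pos (by omega)]
        have e2 : k.size + a + e.size - k.size - c.size = a + e.size - c.size := by omega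
        rw [e2]
        ring
      · rw [if_neg h, if_neg (by omega), zero_mul]
    rw [Finset.sum_congr rfl h5, Finset.sum_comm]
  rw [hL]
  have hR : ∑ w ∈ Finset.range (min a b + 1), cc t w * (uu t (b - w)) ((us t (a - w)) f) k =
      ∑ e ∈ Col.below k, ∑ w ∈ Finset.range (min a b + 1), if e.size + (b - w) = k.size then
        ∑ c ∈ Col.ofSize (e.size + (a - w)),
          ev t (Np k e) * ev t (Np c e) * ev t (ap e) * (f c / ev t (ap c)) * cc t w else 0 := by
    rw [Finset.sum_comm]
    refine Finset.sum_congr rfl fun w _ => ?_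
    rw [uu_apply, Finset.sum_filter, Finset.mul_sum]
    refine Finset.sum_congr rfl fun e _ => ?_
    split_ifs with h
    · rw [us_apply, Finset.mul_sum, Finset.mul_sum, Finset.mul_sum]
      exact Finset.sum_congr rfl fun c _ => by ring
    · rw [mul_zero]
  rw [hR]
  refine Finset.sum_congr rfl fun e he => ?_
  rw [Col.mem_below] at he
  have hes := Col.size_mono he
  by_cases hA : k.size ≤ e.size + b
  · obtain ⟨w0, hw0⟩ : ∃ w0, w0 + k.size = e.size + b := ⟨e.size + b - k.size, by omega⟩
    by_cases hw : w0 ≤ a
    · rw [Finset.sum_eq_single w0]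
      · rw [if_pos (by omega)]
        have hset : C = Col.ofSize (e.size + (a - w0)) := by
          ext c
          rw [hmemC, Col.mem_ofSize]
          omega
        rw [hset]
        refine Finset.sum_congr rfl fun c hc => ?_
        rw [Col.mem_ofSize] at hc
        rw [if_pos (by omega)]
        have e3 : a + e.size - c.size = w0 := by omega
        rw [e3]
      · intro w hw' hne
        rw [Finset.mem_range] at hw'
        rw [if_neg (by omega)]
      · intro h
        exfalso
        apply h
        rw [Finset.mem_range]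
        omega
    · rw [Finset.sum_eq_zero, Finset.sum_eq_zero]
      · intro w hw'
        rw [Finset.mem_range] at hw'
        rw [if_neg (by omega)]
      · intro c hc
        rw [hmemC] at hc
        have h6 : ¬ e ≤ c := fun h => by
          have := Col.size_mono h
          omega
        rw [Np_zero t h6]
        simp
  · rw [Finset.sum_eq_zero, Finset.sum_eq_zero]
    · intro w hw'
      rw [Finset.mem_range] at hw'
      rw [if_neg (by omega)]
    · intro c hc
      rw [hmemC] at hc
      rw [if_neg (by omega)]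

end Mackey

/-! ### the constants -/

section Consts

/-- the constants of the Heisenberg relation -/
noncomputable def kap (t : ℂ) (r : ℕ) : ℂ := if r = 0 then 0 else (t ^ r - 1)⁻¹

theorem cc_zero (t : ℂ) : cc t 0 = 1 := by
  simp [cc, glp]

/-- `|GL_{m+1}| = t^m (t^{m+1} - 1) |GL_m|` -/
theorem glp_eval (t : ℂ) (m : ℕ) : ((glp (m + 1)).map (Int.castRingHom ℂ)).eval t =
    t ^ m * (t ^ (m + 1) - 1) * ((glp m).map (Int.castRingHom ℂ)).eval t := by
  have h : ∀ n : ℕ, ((glp n).map (Int.castRingHom ℂ)).eval t = ∏ j ∈ Finset.range n, (t ^ n - t ^ j) := by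
    intro n
    rw [glp, Polynomial.map_prod, Polynomial.eval_prod]
    refine Finset.prod_congr rfl fun j _ => ?_
    simp
  rw [h, h, Finset.prod_range_succ', pow_zero]
  have h2 : ∏ j ∈ Finset.range m, (t ^ (m + 1) - t ^ (j + 1)) = t ^ m * ∏ j ∈ Finset.range m, (t ^ m - t ^ j) := by
    have h3 : ∏ j ∈ Finset.range m, (t ^ (m + 1) - t ^ (j + 1)) = ∏ j ∈ Finset.range m, (t * (t ^ m - t ^ j)) :=
      Finset.prod_congr rfl fun j _ => by ring
    rw [h3, Finset.prod_mul_distrib, Finset.prod_const, Finset.card_range]
  rw [h2]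
  ring

theorem glp_ne {t : ℂ} (ht : Gen t) (m : ℕ) : ((glp m).map (Int.castRingHom ℂ)).eval t ≠ 0 := by
  induction m with
  | zero => simp [glp]
  | succ m ih =>
    rw [glp_eval]
    exact mul_ne_zero (mul_ne_zero (pow_ne_zero _ ht.1) (sub_ne_zero.2 (ht.2 _ m.succ_pos))) ih

/-- the recursion of the constants -/
theorem cc_succ {t : ℂ} (ht : Gen t) (m : ℕ) : (t ^ (m + 1) - 1) * cc t (m + 1) = t ^ m * cc t m := by
  unfold cc
  have h1 := glp_ne ht m
  have h2 : t ^ (m + 1) - 1 ≠ 0 := sub_ne_zero.2 (ht.2 _ m.succ_pos)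
  have h3 := pow_ne_zero m ht.1
  rw [glp_eval]
  have e : (m + 1) ^ 2 - (m + 1) = (m ^ 2 - m) + m + m := by
    have : m ≤ m ^ 2 := Nat.le_self_pow two_ne_zero m
    have : (m + 1) ^ 2 = m ^ 2 + 2 * m + 1 := by ring
    omega
  have e2 : t ^ ((m + 1) ^ 2 - (m + 1)) = t ^ (m ^ 2 - m) * t ^ m * t ^ m := by rw [e, pow_add, pow_add]
  rw [e2, mul_div_assoc', mul_div_assoc', div_eq_div_iff (mul_ne_zero (mul_ne_zero h3 h2) h1) h1]
  ring

theorem kap_zero (t : ℂ) : kap t 0 = 0 := by simp [kap]

theorem kap_mul {t : ℂ} (ht : Gen t) {r : ℕ} (hr : 0 < r) : kap t r * (t ^ r - 1) = 1 := by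
  rw [kap, if_neg hr.ne']
  exact inv_mul_cancel₀ (sub_ne_zero.2 (ht.2 _ hr))

/-- Newton's identity for the constants -/
theorem cc_newton {t : ℂ} (ht : Gen t) (m : ℕ) :
    (m : ℂ) * cc t m = ∑ r ∈ Finset.range (m + 1), kap t r * cc t (m - r) := by
  -- the sums `P`
  have hA : ∀ m : ℕ, ∑ r ∈ Finset.range (m + 1), kap t r * (t ^ (m - r) * cc t (m - r)) =
      ∑ j ∈ Finset.range (m + 1), ∑ r ∈ Finset.range (j + 1), kap t r * cc t (j - r) := by
    intro m
    induction m with
    | zero => simp [kap_zero]
    | succ m ih =>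
      rw [Finset.sum_range_succ (fun j => ∑ r ∈ Finset.range (j + 1), kap t r * cc t (j - r)) (m + 1), ← ih,
        Finset.sum_range_succ, Finset.sum_range_succ _ (m + 1)]
      rw [Nat.sub_self, pow_zero, one_mul, ← add_assoc, ← Finset.sum_add_distrib]
      congr 1
      refine Finset.sum_congr rfl fun r hr => ?_
      rw [Finset.mem_range] at hr
      have e : m + 1 - r = (m - r) + 1 := by omega
      rw [e]
      have h := cc_succ ht (m - r)
      linear_combination kap t r * h
  have hB : ∀ m : ℕ, ∑ j ∈ Finset.range (m + 1), (t ^ j * cc t j + j * cc t j) = (m + 1 : ℕ) * (t ^ m * cc t m) := by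
    intro m
    induction m with
    | zero => simp
    | succ m ih =>
      rw [Finset.sum_range_succ, ih]
      have h := cc_succ ht m
      push_cast
      linear_combination (-(m : ℂ) - 1) * h
  induction m using Nat.strong_induction_on with
  | _ m ih =>
    cases m with
    | zero => simp [kap_zero]
    | succ m =>
      have h1 : (t ^ (m + 1) - 1) * ∑ r ∈ Finset.range (m + 1 + 1), kap t r * cc t (m + 1 - r) =
          (t ^ (m + 1) - 1) * (((m + 1 : ℕ) : ℂ) * cc t (m + 1)) := by
        have h2 : (t ^ (m + 1) - 1) * ∑ r ∈ Finset.range (m + 1 + 1), kap t r * cc t (m + 1 - r) =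
            ∑ j ∈ Finset.range (m + 1), t ^ j * cc t j +
              ∑ r ∈ Finset.range (m + 1), kap t r * (t ^ (m - r) * cc t (m - r)) := by
          rw [← Finset.sum_range_reflect (fun j => t ^ j * cc t j) (m + 1), Finset.sum_range_succ' _ (m + 1), mul_add,
            kap_zero, zero_mul, mul_zero, add_zero, Finset.mul_sum]
          have h3 : ∑ r ∈ Finset.range (m + 1), kap t r * (t ^ (m - r) * cc t (m - r)) =
              ∑ r ∈ Finset.range (m + 1), kap t (r + 1) * ((t ^ (m - r) - 1) * cc t (m - r)) := by
            rw [Finset.sum_range_succ', kap_zero, zero_mul, add_zero, Finset.sum_range_succ _ m, Nat.sub_self,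
              pow_zero, sub_self, zero_mul, mul_zero, add_zero]
            refine Finset.sum_congr rfl fun r hr => ?_
            rw [Finset.mem_range] at hr
            have e : m - r = (m - (r + 1)) + 1 := by omega
            rw [e, cc_succ ht]
          rw [h3, ← Finset.sum_add_distrib]
          refine Finset.sum_congr rfl fun r hr => ?_
          rw [Finset.mem_range] at hr
          have e1 : m + 1 - (r + 1) = m - r := by omega
          have e2 : m + 1 - 1 - r = m - r := by omega
          have e3 : t ^ (m + 1) = t ^ (m - r) * t ^ (r + 1) := by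
            rw [← pow_add]
            congr 1
            omega
          rw [e1, e2, e3]
          have h4 : kap t (r + 1) * (t ^ (r + 1) - 1) = 1 := kap_mul ht r.succ_pos
          linear_combination t ^ (m - r) * cc t (m - r) * h4
        rw [h2, hA]
        have h5 : ∑ j ∈ Finset.range (m + 1), ∑ r ∈ Finset.range (j + 1), kap t r * cc t (j - r) =
            ∑ j ∈ Finset.range (m + 1), (j : ℂ) * cc t j := by
          refine Finset.sum_congr rfl fun j hj => ?_
          rw [Finset.mem_range] at hj
          exact (ih j hj).symm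
        rw [h5, ← Finset.sum_add_distrib, hB, ← cc_succ ht]
        ring
      exact (mul_left_cancel₀ (sub_ne_zero.2 (ht.2 _ m.succ_pos)) h1).symm

end Consts

/-! ### triple sums -/

section Triple

variable {A : Type*} [AddCommMonoid A]

theorem trip_comm (m : ℕ) (f : ℕ → ℕ → A) :
    ∑ r ∈ Finset.range (m + 1), ∑ w ∈ Finset.range (m - r + 1), f r w =
      ∑ w ∈ Finset.range (m + 1), ∑ r ∈ Finset.range (m - w + 1), f r w :=
  Finset.sum_comm' fun r w => by
    simp only [Finset.mem_range]
    omega

theorem trip_group (m : ℕ) (f : ℕ → ℕ → ℕ → A) :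
    ∑ r ∈ Finset.range (m + 1), ∑ w ∈ Finset.range (m - r + 1), f r w (m - r - w) =
      ∑ s ∈ Finset.range (m + 1), ∑ r ∈ Finset.range (s + 1), f r (s - r) (m - s) := by
  have h : ∀ r ∈ Finset.range (m + 1), ∑ w ∈ Finset.range (m - r + 1), f r w (m - r - w) =
      ∑ s ∈ Finset.Ico r (m + 1), f r (s - r) (m - s) := by
    intro r hr
    rw [Finset.mem_range] at hr
    rw [Finset.sum_Ico_eq_sum_range, show m + 1 - r = m - r + 1 by omega]
    refine Finset.sum_congr rfl fun w hw => ?_
    rw [Nat.add_sub_cancel_left, Nat.sub_sub]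
  rw [Finset.sum_congr rfl h]
  exact Finset.sum_comm' fun r s => by
    simp only [Finset.mem_range, Finset.mem_Ico]
    omega

end Triple

/-! ### the abstract Heisenberg relation -/

section Abs

variable {R : Type*} [Ring R] [Algebra ℂ R]

/-- from a Mackey relation to a Heisenberg relation -/
theorem nwt_comm {a V : ℕ → R} {c κ : ℕ → ℂ} (ha : a 0 = 1) (hc : c 0 = 1)
    (hκ : ∀ m : ℕ, (m : ℂ) * c m = ∑ r ∈ Finset.range (m + 1), κ r * c (m - r))
    (hM : ∀ m k, a m * V k = ∑ w ∈ Finset.range (m + 1), c w • (V (k + w) * a (m - w))) (m k : ℕ) :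
    nwt a m * V k = V k * nwt a m + κ m • V (k + m) := by
  -- the error terms
  set E : ℕ → ℕ → R := fun r k => nwt a r * V k - V k * nwt a r - κ r • V (k + r) with hE
  have key : ∀ m k, ∑ r ∈ Finset.range (m + 1), ∑ w ∈ Finset.range (m - r + 1),
      c w • (E r (k + w) * a (m - r - w)) = 0 := by
    intro m k
    have h1 : ∑ r ∈ Finset.range (m + 1), ∑ w ∈ Finset.range (m - r + 1),
        c w • (nwt a r * V (k + w) * a (m - r - w)) = m • (a m * V k) := by
      rw [← smul_mul_assoc, nwt_sum ha, Finset.sum_mul]
      refine Finset.sum_congr rfl fun r _ => ?_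
      rw [mul_assoc, hM, Finset.mul_sum]
      refine Finset.sum_congr rfl fun w _ => ?_
      rw [mul_smul_comm, mul_assoc]
    have h2 : ∑ r ∈ Finset.range (m + 1), ∑ w ∈ Finset.range (m - r + 1),
        c w • (V (k + w) * nwt a r * a (m - r - w)) =
          ∑ w ∈ Finset.range (m + 1), (m - w) • (c w • (V (k + w) * a (m - w))) := by
      rw [trip_comm m fun r w => c w • (V (k + w) * nwt a r * a (m - r - w))]
      refine Finset.sum_congr rfl fun w _ => ?_
      rw [smul_comm, ← mul_smul_comm, nwt_sum ha, Finset.mul_sum, Finset.smul_sum]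
      refine Finset.sum_congr rfl fun r _ => ?_
      rw [mul_assoc, Nat.sub_right_comm]
    have h3 : ∑ r ∈ Finset.range (m + 1), ∑ w ∈ Finset.range (m - r + 1),
        c w • (κ r • V (k + w + r) * a (m - r - w)) =
          ∑ w ∈ Finset.range (m + 1), w • (c w • (V (k + w) * a (m - w))) := by
      rw [trip_group m fun r w s => c w • (κ r • V (k + w + r) * a s)]
      refine Finset.sum_congr rfl fun s _ => ?_
      rw [← smul_assoc, nsmul_eq_mul, hκ, Finset.sum_smul]
      refine Finset.sum_congr rfl fun r hr => ?_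
      rw [Finset.mem_range] at hr
      rw [show k + (s - r) + r = k + s by omega, smul_mul_assoc, smul_smul, mul_comm]
    have h4 : ∑ r ∈ Finset.range (m + 1), ∑ w ∈ Finset.range (m - r + 1),
        c w • (E r (k + w) * a (m - r - w)) =
        ∑ r ∈ Finset.range (m + 1), ∑ w ∈ Finset.range (m - r + 1), c w • (nwt a r * V (k + w) * a (m - r - w)) -
        ∑ r ∈ Finset.range (m + 1), ∑ w ∈ Finset.range (m - r + 1), c w • (V (k + w) * nwt a r * a (m - r - w)) -
        ∑ r ∈ Finset.range (m + 1), ∑ w ∈ Finset.range (m - r + 1),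
          c w • (κ r • V (k + w + r) * a (m - r - w)) := by
      rw [← Finset.sum_sub_distrib, ← Finset.sum_sub_distrib]
      refine Finset.sum_congr rfl fun r _ => ?_
      rw [← Finset.sum_sub_distrib, ← Finset.sum_sub_distrib]
      refine Finset.sum_congr rfl fun w _ => ?_
      rw [hE]
      simp only [sub_mul, smul_sub]
    rw [h4, h1, h2, h3, sub_sub, ← Finset.sum_add_distrib, hM, Finset.smul_sum, ← Finset.sum_sub_distrib]
    refine Finset.sum_eq_zero fun w hw => ?_
    rw [Finset.mem_range] at hw
    rw [← add_smul, show m - w + w = m by omega, sub_self]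
  have hz : ∀ m k, E m k = 0 := by
    intro m
    induction m using Nat.strong_induction_on with
    | _ m ih =>
      intro k
      have h := key m k
      rw [Finset.sum_range_succ, Finset.sum_eq_zero, zero_add, Nat.sub_self, zero_add, Finset.sum_range_one,
        Nat.sub_zero, hc, ha, one_smul, mul_one, add_zero] at h
      · exact h
      · intro r hr
        rw [Finset.mem_range] at hr
        refine Finset.sum_eq_zero fun w _ => ?_
        rw [ih r hr, zero_mul, smul_zero]
  have h := hz m k
  rw [hE] at h
  simp only [] at h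
  rw [sub_sub, sub_eq_zero] at h
  exact h

theorem nwt_commute {x : R} {u : ℕ → R} (h : ∀ j, Commute x (u j)) (m : ℕ) : Commute x (nwt u m) := by
  induction m using Nat.strong_induction_on with
  | _ m ih =>
    cases m with
    | zero =>
      rw [nwt_zero]
      exact Commute.zero_right x
    | succ m =>
      rw [nwt_succ]
      refine Commute.sub_right ((h _).smul_right _) (Commute.sum_right _ _ _ fun r hr => ?_)
      exact (ih r (Finset.mem_range.1 hr)).mul_right (h _)

theorem map_nwt {S F : Type*} [Ring S] [FunLike F R S] [RingHomClass F R S] (f : F) (u : ℕ → R) (m : ℕ) :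
    f (nwt u m) = nwt (fun j => f (u j)) m := by
  induction m using Nat.strong_induction_on with
  | _ m ih =>
    cases m with
    | zero => rw [nwt_zero, nwt_zero, map_zero]
    | succ m =>
      rw [nwt_succ, nwt_succ, map_sub, map_nsmul, map_sum]
      congr 1
      refine Finset.sum_congr rfl fun r hr => ?_
      rw [map_mul, ih r (Finset.mem_range.1 hr)]

/-- the commutator of the power sums -/
theorem nwt_nwt {u : ℕ → R} (hu : u 0 = 1) {x : R} {k : ℂ} {r : ℕ} (hr : 0 < r)
    (hx : ∀ b, x * u b = u b * x + if r ≤ b then k • u (b - r) else 0) (m : ℕ) :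
    x * nwt u m = nwt u m * x + if m = r then (r * k) • (1 : R) else 0 := by
  induction m using Nat.strong_induction_on with
  | _ m ih =>
    rcases Nat.eq_zero_or_pos m with rfl | hm
    · rw [nwt_zero, mul_zero, zero_mul, if_neg (by omega), add_zero]
    have h0 := nwt_sum hu m
    -- the sum of the second terms
    have h1 : ∑ s ∈ Finset.range (m + 1), nwt u s * (if r ≤ m - s then k • u (m - s - r) else 0) =
        if r ≤ m then k • ((m - r) • u (m - r)) else 0 := by
      by_cases hrm : r ≤ m
      · rw [if_pos hrm, nwt_sum hu, Finset.smul_sum]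
        symm
        refine Finset.sum_subset_zero_on_sdiff ?_ ?_ ?_
        · intro s hs
          rw [Finset.mem_range] at hs ⊢
          omega
        · intro s hs
          rw [Finset.mem_sdiff, Finset.mem_range, Finset.mem_range] at hs
          rw [if_neg (by omega), mul_zero]
        · intro s hs
          rw [Finset.mem_range] at hs
          rw [if_pos (by omega), mul_smul_comm, Nat.sub_right_comm]
      · rw [if_neg hrm]
        refine Finset.sum_eq_zero fun s _ => ?_
        rw [if_neg (by omega), mul_zero]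
    have h2 : x * (m • u m) = (m • u m) * x + if r ≤ m then m • (k • u (m - r)) else 0 := by
      rw [mul_smul_comm, hx, smul_add, smul_mul_assoc]
      split_ifs
      · rfl
      · rw [smul_zero]
    rw [h0, Finset.mul_sum, Finset.sum_mul] at h2
    have h3 : ∀ s ∈ Finset.range m, x * (nwt u s * u (m - s)) = nwt u s * u (m - s) * x +
        nwt u s * (if r ≤ m - s then k • u (m - s - r) else 0) +
        if s = r then (r * k) • u (m - r) else 0 := by
      intro s hs
      rw [← mul_assoc, ih s (Finset.mem_range.1 hs), add_mul, mul_assoc (nwt u s) x, hx, mul_add, ← mul_assoc]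
      congr 1
      split_ifs with h
      · rw [smul_mul_assoc, one_mul, h]
      · rw [zero_mul]
    rw [Finset.sum_range_succ, Finset.sum_congr rfl h3, Finset.sum_add_distrib, Finset.sum_add_distrib,
      Finset.sum_range_succ _ m, Nat.sub_self, hu, mul_one] at h2
    rw [Finset.sum_range_succ, Nat.sub_self, if_neg (by omega), mul_zero, add_zero] at h1
    rw [h1] at h2
    have h4 : x * nwt u m = nwt u m * x + ((if r ≤ m then m • (k • u (m - r)) else 0) -
        (if r ≤ m then k • ((m - r) • u (m - r)) else 0) -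
          ∑ s ∈ Finset.range m, if s = r then (r * k) • u (m - r) else 0) := by
      have h5 : ∀ a b c d e X Y : R, a + b + c + X = a + Y + e → X = Y + (e - b - c) := by
        intro a b c d e X Y h
        have : X = a + Y + e - (a + b + c) := by
          rw [← h]
          abel
        rw [this]
        abel
      exact h5 _ _ _ 0 _ _ _ h2
    rw [h4]
    congr 1
    rcases lt_trichotomy r m with hrm | hrm | hrm
    · rw [if_pos hrm.le, if_pos hrm.le, if_neg hrm.ne', Finset.sum_eq_single r]
      · rw [if_pos rfl, smul_comm k, ← Nat.cast_smul_eq_nsmul ℂ m, ← Nat.cast_smul_eq_nsmul ℂ (m - r), mul_smul,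
          ← sub_smul, ← sub_smul, Nat.cast_sub hrm.le, sub_sub_cancel, sub_self, zero_smul]
      · intro s _ hs
        rw [if_neg hs]
      · intro h
        exact absurd (Finset.mem_range.2 hrm) h
    · subst hrm
      rw [if_pos le_rfl, if_pos le_rfl, if_pos rfl, Nat.sub_self, zero_smul, smul_zero, sub_zero, hu,
        Finset.sum_eq_zero, sub_zero, ← Nat.cast_smul_eq_nsmul ℂ, smul_smul]
      intro s hs
      rw [Finset.mem_range] at hs
      rw [if_neg (by omega)]
    · rw [if_neg (by omega), if_neg (by omega), if_neg (by omega), Finset.sum_eq_zero, sub_zero, sub_zero]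
      intro s hs
      rw [Finset.mem_range] at hs
      rw [if_neg (by omega)]

end Abs

/-! ### the local Heisenberg relations -/

section Heis

variable {t : ℂ}

theorem Np_self (t : ℂ) (l : Col) : ev t (Np l l) = 1 := by
  rw [H521.GU.Np_self, H315.GU.ev_one]

theorem uu_zero (t : ℂ) : uu t 0 = 1 := by
  classical
  refine LinearMap.ext fun f => funext fun l => ?_
  rw [uu_apply, Module.End.one_apply, Finset.sum_eq_single l, Np_self, one_mul]
  · intro c hc hne
    rw [Finset.mem_filter, Col.mem_below] at hc
    exact absurd (col_eq_of_le hc.1 (by omega)) hne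
  · intro h
    exfalso
    apply h
    rw [Finset.mem_filter, Col.mem_below]
    exact ⟨le_rfl, rfl⟩

theorem us_zero (ht : Gen t) : us t 0 = 1 := by
  classical
  refine LinearMap.ext fun f => funext fun k => ?_
  rw [us_apply, Module.End.one_apply, Finset.sum_eq_single k, Np_self, one_mul, mul_div_cancel₀]
  · exact ap_ne ht k
  · intro c hc hne
    rw [Col.mem_ofSize] at hc
    rw [Np_zero t fun h => hne (col_eq_of_le h (by omega)).symm, zero_mul, zero_div]
  · intro h
    exfalso
    apply h
    rw [Col.mem_ofSize, add_zero]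

/-- `uu (b - k)`, or zero -/
noncomputable def uz (t : ℂ) (b k : ℕ) : Module.End ℂ (Col → ℂ) := if k ≤ b then uu t (b - k) else 0

theorem us_uz (h3 : I3S) (ht : Gen t) (b a k : ℕ) :
    us t a * uz t b k = ∑ w ∈ Finset.range (a + 1), cc t w • (uz t b (k + w) * us t (a - w)) := by
  unfold uz
  by_cases hk : k ≤ b
  · rw [if_pos hk, us_uu h3 ht]
    refine Finset.sum_subset_zero_on_sdiff ?_ ?_ ?_
    · intro w hw
      rw [Finset.mem_range] at hw ⊢
      omega
    · intro w hw
      rw [Finset.mem_sdiff, Finset.mem_range, Finset.mem_range] at hw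
      rw [if_neg (by omega), zero_mul, smul_zero]
    · intro w hw
      rw [Finset.mem_range] at hw
      rw [if_pos (by omega), Nat.sub_sub]
  · rw [if_neg hk, mul_zero]
    symm
    refine Finset.sum_eq_zero fun w _ => ?_
    rw [if_neg (by omega), zero_mul, smul_zero]

theorem ps_uz (h3 : I3S) (ht : Gen t) (b m k : ℕ) :
    ps t m * uz t b k = uz t b k * ps t m + kap t m • uz t b (k + m) :=
  nwt_comm (us_zero ht) (cc_zero t) (cc_newton ht) (fun m k => us_uz h3 ht b m k) m k

theorem ps_uu (h3 : I3S) (ht : Gen t) (r b : ℕ) :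
    ps t r * uu t b = uu t b * ps t r + if r ≤ b then kap t r • uu t (b - r) else 0 := by
  have h := ps_uz h3 ht b r 0
  unfold uz at h
  rw [if_pos (Nat.zero_le b), Nat.sub_zero, zero_add] at h
  rw [h]
  congr 1
  split_ifs
  · rfl
  · rw [smul_zero]

/-- the Heisenberg relation -/
theorem ps_pp (h3 : I3S) (ht : Gen t) {r : ℕ} (hr : 0 < r) (m : ℕ) :
    ps t r * pp t m = pp t m * ps t r + if m = r then (r * kap t r) • 1 else 0 :=
  nwt_nwt (uu_zero t) hr (fun b => ps_uu h3 ht r b) m

end Heis

end Cfsg.Agent.H531.GU
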