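import Cfsg.Agent.H531.GU.Form
import Cfsg.Agent.H421.GU.Orth

/-!
# S4537, R2: final form (helper531)
-/

set_option autoImplicit false

open Cfsg Cfsg.Agent.H615.GU Cfsg.Agent.H577.GLB.Std

universe u

namespace Cfsg.Agent.H531.GU

variable {K : Type*} [Field K] {θ : K →*₀ ℂ} {Q : ℤ} {M N : ℕ}

theorem orthS_all [Finite K] (ctx : CtxQ θ Q M N) : OrthS θ Q M N := by
  classical
  intro k c c' hk hN hc hc'
  have := CtxQ.neM ctx
  have h := H421.GU.orth_sum ctx hk hN hc hc'
  unfold orthS
  convert h using 2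

/-- **R2**: the evaluation of the standard model is an isometry. -/
theorem R2 (ctx : CtxQ θ Q M N) {n : ℕ} (hn : n ≤ N) {G : Type u} [Group G]
    [Finite G] [Fintype G] (T : TypeData (dOrb K Q) Q G n) {x y : RS M}
    (hx : x ∈ Hom Q M n) (hy : y ∈ Hom Q M n) :
    classInner (fun g => evR θ Q M x (T.typ g)) (fun g => evR θ Q M y (T.typ g)) = form Q M x y := by
  have := ctx.finK
  exact classInner_evR ctx (orthS_all ctx) hn T hx hy

end Cfsg.Agent.H531.GU
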