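import Cfsg.Agent.H531.GU.Glo

/-!
# S4537, B2 (global): the evaluation of the standard model (helper531)

* `Pop_comm` : the operators `Pop` commute (from (I2));
* `evR_X_mul` : `evR (X v * x) = Pop v (evR x)`;
* `exists_rho` : `evR x = rho x vac` for a homomorphism of algebras `rho` with `rho (X v) = Pop v`;
* `evR_supp` : `evR x` is supported on the types of degree `n` if `x` has weight `n`.
-/

set_option autoImplicit false
set_option linter.unusedSectionVars false

open scoped ComplexConjugate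
open Cfsg Cfsg.Agent.H615.GU Cfsg.Agent.H315.GU Cfsg.Agent.H577.GLB.Std

namespace Cfsg.Agent.H531.GU

/-! ### a commuting family defines a homomorphism -/

section Abs

open MvPolynomial

variable {B ι : Type*} [Ring B] [Algebra ℂ B] {P : ι → B}

theorem exists_hom (hP : ∀ v w, P v * P w = P w * P v) : ∃ φ : MvPolynomial ι ℂ →ₐ[ℂ] B, ∀ v, φ (X v) = P v := by
  have hc : IsMulCommutative (Algebra.adjoin ℂ (Set.range P)) := Algebra.isMulCommutative_adjoin ℂ (by
    rintro _ ⟨v, rfl⟩ _ ⟨w, rfl⟩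
    exact hP v w)
  let : CommRing (Algebra.adjoin ℂ (Set.range P)) :=
    { (Algebra.adjoin ℂ (Set.range P)).toRing with mul_comm := fun a b => hc.is_comm.comm a b }
  refine ⟨(Algebra.adjoin ℂ (Set.range P)).val.comp
    (aeval fun v => (⟨P v, Algebra.subset_adjoin ⟨v, rfl⟩⟩ : Algebra.adjoin ℂ (Set.range P))), fun v => ?_⟩
  rw [AlgHom.comp_apply, aeval_X]
  rfl

end Abs

/-! ### commutation -/

section Comm

variable {I : Type*} (d : I → ℕ) (Q : ℤ)

open Classical in
theorem lft_uu_eq (i : I) (j : ℕ) : lft i (uu ((Q : ℂ) ^ d i) j) =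
    UF d Q fun v => if v = Finsupp.single i j then 1 else 0 := by
  have h := lft_uu_UF d Q i j (fun v => if v = Finsupp.single i j then 1 else 0)
  have h1 : (fun v : I →₀ ℕ => if v i = 0 then (if v + Finsupp.single i j = Finsupp.single i j then (1 : ℂ) else 0) else 0) =
      fun v => if v = 0 then 1 else 0 := by
    funext v
    by_cases hv : v = 0
    · subst hv
      simp
    · rw [if_neg hv]
      by_cases h2 : v i = 0
      · rw [if_pos h2, if_neg]
        intro h3
        exact hv (by simpa using h3)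
      · rw [if_neg h2]
  have h2 : (fun v : I →₀ ℕ => if v i = j then (if v = Finsupp.single i j then (1 : ℂ) else 0) else 0) =
      fun v => if v = Finsupp.single i j then 1 else 0 := by
    funext v
    by_cases hv : v = Finsupp.single i j
    · rw [if_pos hv, if_pos]
      rw [hv, Finsupp.single_eq_same]
    · rw [if_neg hv, ite_self]
  rw [h1, h2, UF_one, mul_one] at h
  exact h

theorem lft_pp_comm (h2 : I2S) (i i' : I) (m m' : ℕ) :
    Commute (lft i (pp ((Q : ℂ) ^ d i) m)) (lft i' (pp ((Q : ℂ) ^ d i') m')) := by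
  classical
  rw [lft_pp, lft_pp]
  refine nwt_commute (fun j => (nwt_commute (fun j' => ?_) m).symm) m'
  rw [lft_uu_eq, lft_uu_eq]
  exact UF_comm d Q h2 _ _

/-- `lft i (pp m)` commutes with all the operators `UF` -/
theorem lft_pp_UF (h2 : I2S) (i : I) (m : ℕ) (F : (I →₀ ℕ) → ℂ) :
    Commute (lft i (pp ((Q : ℂ) ^ d i) m)) (UF d Q F) := by
  classical
  rw [lft_pp]
  refine (nwt_commute (fun j => ?_) m).symm
  rw [lft_uu_eq]
  exact UF_comm d Q h2 _ _

end Comm

/-! ### the operators of the realization -/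

section Real

variable {K : Type*} [Field K] [Finite K] (θ : K →*₀ ℂ) (Q : ℤ) (M : ℕ)

noncomputable instance : Fintype (Orb K Q) := Fintype.ofFinite _

open Classical in
theorem Pop_eq (k : ℕ) (c : ZMod M) : Pop θ Q M k c = ∑ o : Orb K Q, if 0 < k ∧ dOrb K Q o ∣ k then
    thO θ Q M k c o • lft o (pp ((Q : ℂ) ^ dOrb K Q o) (k / dOrb K Q o)) else 0 := by
  rw [Pop, finsum_eq_sum_of_fintype]

theorem Pop_comm (h2 : I2S) (k k' : ℕ) (c c' : ZMod M) :
    Pop θ Q M k c * Pop θ Q M k' c' = Pop θ Q M k' c' * Pop θ Q M k c := by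
  classical
  rw [Pop_eq, Pop_eq]
  refine Commute.eq (Commute.sum_left _ _ _ fun o _ => Commute.sum_right _ _ _ fun o' _ => ?_)
  split_ifs
  · exact ((lft_pp_comm (dOrb K Q) Q h2 o o' _ _).smul_left _).smul_right _
  · exact Commute.zero_right _
  · exact Commute.zero_left _
  · exact Commute.zero_left _

theorem Pop_UF (h2 : I2S) (k : ℕ) (c : ZMod M) (F : (Orb K Q →₀ ℕ) → ℂ) :
    Commute (Pop θ Q M k c) (UF (dOrb K Q) Q F) := by
  classical
  rw [Pop_eq]
  refine Commute.sum_left _ _ _ fun o _ => ?_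
  split_ifs
  · exact (lft_pp_UF (dOrb K Q) Q h2 o _ _).smul_left _
  · exact Commute.zero_left _

theorem exists_rho (h2 : I2S) : ∃ rho : RS M →ₐ[ℂ] Module.End ℂ (Ty (Orb K Q) → ℂ),
    (∀ v : Var M, rho (MvPolynomial.X v) = Pop θ Q M v.1 v.2) ∧ ∀ x : RS M, evR θ Q M x = rho x vac := by
  classical
  obtain ⟨rho, hrho⟩ := exists_hom (P := fun v : Var M => Pop θ Q M v.1 v.2)
    (fun v w => Pop_comm θ Q M h2 v.1 w.1 v.2 w.2)
  refine ⟨rho, hrho, fun x => ?_⟩
  induction x using MvPolynomial.induction_on' with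
  | monomial m a =>
    have h1 : (MvPolynomial.monomial m a : RS M) = a • MvPolynomial.monomial m 1 := by
      rw [MvPolynomial.smul_monomial, smul_eq_mul, mul_one]
    rw [h1, map_smul, map_smul, evR_monomial, LinearMap.smul_apply]
    congr 1
    have h3 : (MvPolynomial.monomial m 1 : RS M) = (m.support.toList.map fun v => MvPolynomial.X v ^ m v).prod := by
      rw [MvPolynomial.monomial_eq, map_one, one_mul, Finsupp.prod, Finset.prod_map_toList]
    rw [h3, map_list_prod, List.map_map]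
    congr 3
    funext v
    rw [Function.comp_apply, map_pow, hrho]
  | add p q hp hq => rw [map_add, map_add, hp, hq, LinearMap.add_apply]

theorem evR_X_mul (h2 : I2S) (v : Var M) (x : RS M) :
    evR θ Q M (MvPolynomial.X v * x) = Pop θ Q M v.1 v.2 (evR θ Q M x) := by
  obtain ⟨rho, h, h'⟩ := exists_rho θ Q M h2
  rw [h', h', map_mul, h, Module.End.mul_apply]

/-! ### supports -/

/-- functions supported on the types of degree `n` -/
def Sup {I : Type*} (d : I → ℕ) (n : ℕ) (f : Ty I → ℂ) : Prop := ∀ lam, tdeg d lam ≠ n → f lam = 0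

theorem Sup.add {I : Type*} {d : I → ℕ} {n : ℕ} {f f' : Ty I → ℂ} (h : Sup d n f) (h' : Sup d n f') :
    Sup d n (f + f') := fun lam hl => by rw [Pi.add_apply, h lam hl, h' lam hl, add_zero]

theorem Sup.sub {I : Type*} {d : I → ℕ} {n : ℕ} {f f' : Ty I → ℂ} (h : Sup d n f) (h' : Sup d n f') :
    Sup d n (f - f') := fun lam hl => by rw [Pi.sub_apply, h lam hl, h' lam hl, sub_zero]

theorem Sup.smul {I : Type*} {d : I → ℕ} {n : ℕ} {f : Ty I → ℂ} (c : ℂ) (h : Sup d n f) :
    Sup d n (c • f) := fun lam hl => by rw [Pi.smul_apply, h lam hl, smul_zero]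

theorem Sup.zero {I : Type*} {d : I → ℕ} {n : ℕ} : Sup d n 0 := fun _ _ => rfl

theorem Sup.sum {I ι : Type*} {d : I → ℕ} {n : ℕ} (s : Finset ι) {f : ι → Ty I → ℂ} (h : ∀ i ∈ s, Sup d n (f i)) :
    Sup d n (∑ i ∈ s, f i) := fun lam hl => by
  rw [Finset.sum_apply]
  exact Finset.sum_eq_zero fun i hi => h i hi lam hl

/-- operators of degree `a` -/
def Deg {I : Type*} (d : I → ℕ) (a : ℕ) (A : Module.End ℂ (Ty I → ℂ)) : Prop :=
  ∀ n f, Sup d n f → Sup d (n + a) (A f)

theorem Deg.mul {I : Type*} {d : I → ℕ} {a b : ℕ} {A B : Module.End ℂ (Ty I → ℂ)} (hA : Deg d a A) (hB : Deg d b B) :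
    Deg d (a + b) (A * B) := fun n f hf => by
  rw [Module.End.mul_apply, add_comm a b, ← add_assoc]
  exact hA _ _ (hB _ _ hf)

theorem Deg.one {I : Type*} {d : I → ℕ} : Deg d 0 1 := fun _ _ hf => hf

theorem Deg.add {I : Type*} {d : I → ℕ} {a : ℕ} {A B : Module.End ℂ (Ty I → ℂ)} (hA : Deg d a A) (hB : Deg d a B) :
    Deg d a (A + B) := fun n f hf => (hA n f hf).add (hB n f hf)

theorem Deg.sub {I : Type*} {d : I → ℕ} {a : ℕ} {A B : Module.End ℂ (Ty I → ℂ)} (hA : Deg d a A) (hB : Deg d a B) :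
    Deg d a (A - B) := fun n f hf => (hA n f hf).sub (hB n f hf)

theorem Deg.smul {I : Type*} {d : I → ℕ} {a : ℕ} {A : Module.End ℂ (Ty I → ℂ)} (c : ℂ) (hA : Deg d a A) :
    Deg d a (c • A) := fun n f hf => (hA n f hf).smul c

theorem Deg.zero {I : Type*} {d : I → ℕ} {a : ℕ} : Deg d a 0 := fun _ _ _ => Sup.zero

theorem Deg.sum {I ι : Type*} {d : I → ℕ} {a : ℕ} (s : Finset ι) {A : ι → Module.End ℂ (Ty I → ℂ)}
    (h : ∀ i ∈ s, Deg d a (A i)) : Deg d a (∑ i ∈ s, A i) := fun n f hf => by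
  rw [LinearMap.sum_apply]
  exact Sup.sum s fun i hi => h i hi n f hf

theorem Deg.nwt {I : Type*} {d : I → ℕ} {e : ℕ} {u : ℕ → Module.End ℂ (Ty I → ℂ)} (h : ∀ j, Deg d (e * j) (u j))
    (m : ℕ) : Deg d (e * m) (nwt u m) := by
  induction m using Nat.strong_induction_on with
  | _ m ih =>
    cases m with
    | zero =>
      rw [nwt_zero]
      exact Deg.zero
    | succ m =>
      rw [nwt_succ, ← Nat.cast_smul_eq_nsmul ℂ]
      refine ((h _).smul _).sub (Deg.sum _ fun r hr => ?_)
      rw [Finset.mem_range] at hr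
      have h1 := (ih r hr).mul (h (m + 1 - r))
      rwa [← mul_add, Nat.add_sub_cancel' hr.le] at h1

theorem Deg_UF {I : Type*} (d : I → ℕ) (Q : ℤ) {a : ℕ} {F : (I →₀ ℕ) → ℂ} (hF : ∀ v, vdeg d v ≠ a → F v = 0) :
    Deg d a (UF d Q F) := by
  intro n f hf lam hlam
  rw [UF_apply]
  refine Finset.sum_eq_zero fun k hk => ?_
  rw [mem_tbelow] at hk
  have h1 : vdeg d (sz lam - sz k) + tdeg d k = tdeg d lam := by
    rw [← vdeg_sz, ← vdeg_sz, ← vdeg_add, tsub_add_cancel_of_le (sz_mono hk)]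
  by_cases h : tdeg d k = n
  · rw [hF _ (by omega), mul_zero, zero_mul]
  · rw [hf k h, mul_zero]

theorem Deg_lft_pp {I : Type*} (d : I → ℕ) (Q : ℤ) (i : I) (m : ℕ) :
    Deg d (d i * m) (lft i (pp ((Q : ℂ) ^ d i) m)) := by
  classical
  rw [lft_pp]
  refine Deg.nwt (fun j => ?_) m
  rw [lft_uu_eq]
  refine Deg_UF d Q fun v hv => ?_
  rw [if_neg]
  rintro rfl
  exact hv (vdeg_single d i j)

theorem Deg_Pop (k : ℕ) (c : ZMod M) : Deg (dOrb K Q) k (Pop θ Q M k c) := by
  classical
  rw [Pop_eq]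
  refine Deg.sum _ fun o _ => ?_
  split_ifs with h
  · have h1 := Deg_lft_pp (dOrb K Q) Q o (k / dOrb K Q o)
    rw [Nat.mul_div_cancel' h.2] at h1
    exact h1.smul _
  · exact Deg.zero

theorem Sup_vac {I : Type*} (d : I → ℕ) : Sup d 0 (vac : Ty I → ℂ) := fun lam hl => by
  rw [vac, if_neg]
  rintro rfl
  apply hl
  exact Finsupp.sum_zero_index

theorem evR_supp (h2 : I2S) {n : ℕ} {x : RS M}
    (hx : x ∈ MvPolynomial.weightedHomogeneousSubmodule ℂ (fun v : Var M => v.1) n) :
    Sup (dOrb K Q) n (evR θ Q M x) := by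
  classical
  obtain ⟨rho, hr, hr'⟩ := exists_rho θ Q M h2
  have key : ∀ m : Var M →₀ ℕ, Deg (dOrb K Q) (Finsupp.weight (fun v : Var M => v.1) m)
      (rho (MvPolynomial.monomial m 1)) := by
    intro m
    induction m using Finsupp.induction_linear with
    | zero =>
      rw [map_zero]
      have : rho (MvPolynomial.monomial 0 1) = 1 := map_one rho
      rw [this]
      exact Deg.one
    | add m m' h h' =>
      rw [map_add]
      have : (MvPolynomial.monomial (m + m') 1 : RS M) = MvPolynomial.monomial m 1 * MvPolynomial.monomial m' 1 := by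
        rw [MvPolynomial.monomial_mul, one_mul]
      rw [this, map_mul]
      exact h.mul h'
    | single v e =>
      have h1 : (MvPolynomial.monomial (Finsupp.single v e) 1 : RS M) = MvPolynomial.X v ^ e := by
        rw [MvPolynomial.X_pow_eq_monomial]
      rw [h1, map_pow, hr]
      induction e with
      | zero =>
        rw [pow_zero, Finsupp.single_zero, map_zero]
        exact Deg.one
      | succ e ih =>
        have h2 := (ih (by rw [MvPolynomial.X_pow_eq_monomial])).mul (Deg_Pop θ Q M v.1 v.2)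
        rw [pow_succ]
        convert h2 using 1
        rw [Finsupp.weight_single, Finsupp.weight_single, smul_eq_mul, smul_eq_mul, Nat.succ_mul]
  rw [hr']
  rw [MvPolynomial.mem_weightedHomogeneousSubmodule] at hx
  rw [x.as_sum, map_sum, LinearMap.sum_apply]
  refine Sup.sum _ fun m hm => ?_
  have h1 : (MvPolynomial.monomial m (x.coeff m) : RS M) = x.coeff m • MvPolynomial.monomial m 1 := by
    rw [MvPolynomial.smul_monomial, smul_eq_mul, mul_one]
  rw [h1, map_smul, LinearMap.smul_apply]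
  refine Sup.smul _ ?_
  have h3 := key m 0 vac (Sup_vac _)
  rwa [zero_add, hx (MvPolynomial.mem_support_iff.1 hm)] at h3

end Real

end Cfsg.Agent.H531.GU
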