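import Cfsg.Agent.H531.GU.Neck
import Cfsg.Agent.H521.GU.Compl

/-!
# S4537, R2 (first half): adjoint operators (helper531)

* `Adj d Q k A B` : `ipt (n + k) (A f) x = sign ^ k * ipt n f (B x)`;
* `Adj_lft_pp`, `Adj_Pop` : the adjoint of `Pop k c` is `PSop k c = ∑ conj (thO k c o) • lft o (ps ..)`;
* `PSop_Pop` : the Heisenberg relation; `PSop_vac`.
-/

set_option autoImplicit false
set_option linter.unusedSectionVars false

open scoped ComplexConjugate
open Cfsg Cfsg.Agent.H615.GU Cfsg.Agent.H315.GU Cfsg.Agent.H577.GLB.Std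

universe u

namespace Cfsg.Agent.H531.GU

section Update

variable {I : Type*} (d : I → ℕ) (Q : ℤ)

theorem update_support [DecidableEq I] (lam : Ty I) (i : I) (c : Col) : (lam.update i c).support ⊆ insert i lam.support := by
  intro i' hi'
  rw [Finset.mem_insert]
  by_cases h : i' = i
  · exact Or.inl h
  · right
    rw [Finsupp.mem_support_iff, update_ne lam (Ne.symm h)] at hi'
    exact Finsupp.mem_support_iff.2 hi'

theorem Ag_update (lam : Ty I) (i : I) (c : Col) :
    Ag d Q (lam.update i c) * ev ((Q : ℂ) ^ d i) (ap (lam i)) = Ag d Q lam * ev ((Q : ℂ) ^ d i) (ap c) := by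
  classical
  rw [Ag_eq_prod d Q (update_support lam i c), Ag_eq_prod d Q (Finset.subset_insert i lam.support),
    ← Finset.mul_prod_erase _ _ (Finset.mem_insert_self i lam.support),
    ← Finset.mul_prod_erase _ (fun i' => ev ((Q : ℂ) ^ d i') (ap (lam i'))) (Finset.mem_insert_self i lam.support),
    update_same]
  have h : ∏ x ∈ (insert i lam.support).erase i, ev ((Q : ℂ) ^ d x) (ap ((lam.update i c) x)) =
      ∏ x ∈ (insert i lam.support).erase i, ev ((Q : ℂ) ^ d x) (ap (lam x)) :=
    Finset.prod_congr rfl fun x hx => by rw [update_ne lam (Finset.ne_of_mem_erase hx).symm]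
  rw [h]
  ring

theorem tdeg_update (lam : Ty I) (i : I) (c : Col) :
    tdeg d (lam.update i c) + d i * (lam i).size = tdeg d lam + d i * c.size := by
  classical
  rw [tdeg_eq_sum d (update_support lam i c), tdeg_eq_sum d (Finset.subset_insert i lam.support),
    ← Finset.add_sum_erase _ _ (Finset.mem_insert_self i lam.support),
    ← Finset.add_sum_erase _ (fun i' => d i' * (lam i').size) (Finset.mem_insert_self i lam.support), update_same]
  have h : ∑ x ∈ (insert i lam.support).erase i, d x * ((lam.update i c) x).size =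
      ∑ x ∈ (insert i lam.support).erase i, d x * (lam x).size :=
    Finset.sum_congr rfl fun x hx => by rw [update_ne lam (Finset.ne_of_mem_erase hx).symm]
  rw [h]
  ring

end Update

section Adj

variable {I : Type*} (d : I → ℕ) (Q : ℤ)

/-- adjoint operators of degree `k` -/
def Adj (k : ℕ) (A B : Module.End ℂ (Ty I → ℂ)) : Prop :=
  ∀ n f x, ipt d Q (n + k) (A f) x = (Q.sign : ℂ) ^ k * ipt d Q n f (B x)

variable {d Q}

theorem ipt_add_left (n : ℕ) (f g x : Ty I → ℂ) : ipt d Q n (f + g) x = ipt d Q n f x + ipt d Q n g x := by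
  unfold ipt
  rw [← Finset.sum_add_distrib]
  exact Finset.sum_congr rfl fun lam _ => by rw [Pi.add_apply, add_mul, add_div]

theorem ipt_smul_left (n : ℕ) (c : ℂ) (f x : Ty I → ℂ) : ipt d Q n (c • f) x = c * ipt d Q n f x := by
  unfold ipt
  rw [Finset.mul_sum]
  exact Finset.sum_congr rfl fun lam _ => by rw [Pi.smul_apply, smul_eq_mul]; ring

theorem ipt_zero_left (n : ℕ) (x : Ty I → ℂ) : ipt d Q n 0 x = 0 := by
  have h := ipt_smul_left (d := d) (Q := Q) n 0 0 x
  rwa [zero_smul, zero_mul] at h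

theorem ipt_sum_left {ι : Type*} (s : Finset ι) (n : ℕ) (f : ι → Ty I → ℂ) (x : Ty I → ℂ) :
    ipt d Q n (∑ i ∈ s, f i) x = ∑ i ∈ s, ipt d Q n (f i) x := by
  classical
  induction s using Finset.induction_on with
  | empty => rw [Finset.sum_empty, Finset.sum_empty, ipt_zero_left]
  | insert a s ha ih => rw [Finset.sum_insert ha, Finset.sum_insert ha, ipt_add_left, ih]

theorem ipt_add_right (n : ℕ) (f g x : Ty I → ℂ) : ipt d Q n x (f + g) = ipt d Q n x f + ipt d Q n x g := by
  unfold ipt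
  rw [← Finset.sum_add_distrib]
  exact Finset.sum_congr rfl fun lam _ => by rw [Pi.add_apply, map_add, mul_add, add_div]

theorem ipt_smul_right (n : ℕ) (c : ℂ) (f x : Ty I → ℂ) : ipt d Q n x (c • f) = conj c * ipt d Q n x f := by
  unfold ipt
  rw [Finset.mul_sum]
  exact Finset.sum_congr rfl fun lam _ => by rw [Pi.smul_apply, smul_eq_mul, map_mul]; ring

theorem ipt_zero_right (n : ℕ) (x : Ty I → ℂ) : ipt d Q n x 0 = 0 := by
  have h := ipt_smul_right (d := d) (Q := Q) n 0 0 x
  rwa [zero_smul, map_zero, zero_mul] at h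

theorem Adj.zero {k : ℕ} : Adj d Q k 0 0 := fun n f x => by
  rw [LinearMap.zero_apply, LinearMap.zero_apply, ipt_zero_left, ipt_zero_right, mul_zero]

theorem Adj.add {k : ℕ} {A B A' B' : Module.End ℂ (Ty I → ℂ)} (h : Adj d Q k A B) (h' : Adj d Q k A' B') :
    Adj d Q k (A + A') (B + B') := fun n f x => by
  rw [LinearMap.add_apply, LinearMap.add_apply, ipt_add_left, ipt_add_right, h, h', mul_add]

theorem Adj.smul {k : ℕ} {A B : Module.End ℂ (Ty I → ℂ)} (c : ℂ) (h : Adj d Q k A B) :
    Adj d Q k (c • A) (conj c • B) := fun n f x => by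
  rw [LinearMap.smul_apply, LinearMap.smul_apply, ipt_smul_left, ipt_smul_right, h, Complex.conj_conj]
  ring

theorem ipt_sub_left (n : ℕ) (f g x : Ty I → ℂ) : ipt d Q n (f - g) x = ipt d Q n f x - ipt d Q n g x := by
  unfold ipt
  rw [← Finset.sum_sub_distrib]
  exact Finset.sum_congr rfl fun lam _ => by rw [Pi.sub_apply, sub_mul, sub_div]

theorem ipt_sub_right (n : ℕ) (f g x : Ty I → ℂ) : ipt d Q n x (f - g) = ipt d Q n x f - ipt d Q n x g := by
  unfold ipt
  rw [← Finset.sum_sub_distrib]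
  exact Finset.sum_congr rfl fun lam _ => by rw [Pi.sub_apply, map_sub, mul_sub, sub_div]

theorem Adj.sub {k : ℕ} {A B A' B' : Module.End ℂ (Ty I → ℂ)} (h : Adj d Q k A B) (h' : Adj d Q k A' B') :
    Adj d Q k (A - A') (B - B') := fun n f x => by
  rw [LinearMap.sub_apply, LinearMap.sub_apply, ipt_sub_left, ipt_sub_right, h, h', mul_sub]

theorem Adj.sum {ι : Type*} (s : Finset ι) {k : ℕ} {A B : ι → Module.End ℂ (Ty I → ℂ)}
    (h : ∀ i ∈ s, Adj d Q k (A i) (B i)) : Adj d Q k (∑ i ∈ s, A i) (∑ i ∈ s, B i) := by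
  classical
  induction s using Finset.induction_on with
  | empty => rw [Finset.sum_empty, Finset.sum_empty]; exact Adj.zero
  | insert a s ha ih =>
    rw [Finset.sum_insert ha, Finset.sum_insert ha]
    exact (h a (Finset.mem_insert_self _ _)).add (ih fun i hi => h i (Finset.mem_insert_of_mem hi))

theorem Adj.mul {k k' : ℕ} {A B A' B' : Module.End ℂ (Ty I → ℂ)} (h : Adj d Q k A B) (h' : Adj d Q k' A' B') :
    Adj d Q (k' + k) (A * A') (B' * B) := fun n f x => by
  rw [Module.End.mul_apply, Module.End.mul_apply, ← add_assoc, h, h', pow_add]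
  ring

theorem Adj.nwt {e : ℕ} {u u' : ℕ → Module.End ℂ (Ty I → ℂ)} (h : ∀ j, Adj d Q (e * j) (u j) (u' j))
    (hc : ∀ r j, Commute (nwt u r) (u j)) (m : ℕ) : Adj d Q (e * m) (nwt u m) (nwt u' m) := by
  induction m using Nat.strong_induction_on with
  | _ m ih =>
    cases m with
    | zero =>
      rw [nwt_zero, nwt_zero]
      exact Adj.zero
    | succ m =>
      rw [nwt_succ, nwt_succ, ← Nat.cast_smul_eq_nsmul ℂ, ← Nat.cast_smul_eq_nsmul ℂ]
      have h1 := (h (m + 1)).smul ((m + 1 : ℕ) : ℂ)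
      rw [Complex.conj_natCast] at h1
      refine h1.sub (Adj.sum _ fun r hr => ?_)
      rw [Finset.mem_range] at hr
      rw [(hc r (m + 1 - r)).eq]
      have h2 := (h (m + 1 - r)).mul (ih r hr)
      rwa [← mul_add, Nat.add_sub_cancel' hr.le] at h2

variable (hd : ∀ i, 0 < d i) (hQ : 2 ≤ |Q|) (hf : ∀ n, {lam : Ty I | tdeg d lam = n}.Finite)

include hd hQ hf

theorem gen_pow (i : I) : Gen ((Q : ℂ) ^ d i) := by
  have h0 : Q ≠ 0 := by
    rintro rfl
    simp at hQ
  refine ⟨pow_ne_zero _ (Int.cast_ne_zero.2 h0), fun j hj h => ?_⟩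
  rw [← pow_mul] at h
  have h1 : Q ^ (d i * j) = 1 := by exact_mod_cast h
  have h2 : |Q| ^ (d i * j) = 1 := by rw [← abs_pow, h1, abs_one]
  have h3 : 1 < |Q| ^ (d i * j) := one_lt_pow₀ (by omega) (Nat.mul_pos (hd i) hj).ne'
  omega

theorem Adj_lft_uu (i : I) (j : ℕ) :
    Adj d Q (d i * j) (lft i (uu ((Q : ℂ) ^ d i) j)) (lft i (us ((Q : ℂ) ^ d i) j)) := by
  classical
  intro n f x
  set t : ℂ := (Q : ℂ) ^ d i with ht
  have hgen := gen_pow hd hQ hf i
  have hs : (Q.sign : ℂ) * (Q.sign : ℂ) = 1 := by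
    rw [← Int.cast_mul, sign_mul_self hd hQ, Int.cast_one]
  have hs0 : (Q.sign : ℂ) ≠ 0 := by
    intro h0
    rw [h0, zero_mul] at hs
    exact zero_ne_one hs
  have htc : conj t = t := by rw [ht, map_pow, map_intCast]
  -- the left hand side
  have hL : ipt d Q (n + d i * j) (lft i (uu t j) f) x =
      ∑ p ∈ (tofDeg d (n + d i * j)).sigma (fun lam : Ty I => (Col.ofSize ((lam i).size - j)).filter
        (fun c => c.size + j = (lam i).size)),
        ev t (Np (p.1 i) p.2) * f (p.1.update i p.2) * conj (x p.1) / ((Q.sign : ℂ) ^ (n + d i * j) * Ag d Q p.1) := by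
    rw [Finset.sum_sigma]
    unfold ipt
    refine Finset.sum_congr rfl fun lam _ => ?_
    have h1 : lft i (uu t j) f lam = ∑ c ∈ (Col.ofSize ((lam i).size - j)).filter (fun c => c.size + j = (lam i).size),
        ev t (Np (lam i) c) * f (lam.update i c) := by
      rw [lft_apply, uu_apply]
      refine Finset.sum_subset_zero_on_sdiff ?_ ?_ fun _ _ => rfl
      · intro c hc
        rw [Finset.mem_filter] at hc ⊢
        exact ⟨Col.mem_ofSize.2 (by omega), hc.2⟩
      · intro c hc
        rw [Finset.mem_sdiff, Finset.mem_filter, Finset.mem_filter, Col.mem_below] at hc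
        have h4 : ¬ c ≤ lam i := fun h => hc.2 ⟨h, hc.1.2⟩
        rw [Np_zero t h4, zero_mul]
    rw [h1, Finset.sum_mul, Finset.sum_div]
  have hR : (Q.sign : ℂ) ^ (d i * j) * ipt d Q n f (lft i (us t j) x) =
      ∑ p ∈ (tofDeg d n).sigma (fun mu : Ty I => Col.ofSize ((mu i).size + j)),
        (Q.sign : ℂ) ^ (d i * j) * (f p.1 * (ev t (ap (p.1 i)) *
          (ev t (Np p.2 (p.1 i)) * conj (x (p.1.update i p.2)) / ev t (ap p.2))) / ((Q.sign : ℂ) ^ n * Ag d Q p.1)) := by
    rw [Finset.sum_sigma]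
    unfold ipt
    rw [Finset.mul_sum]
    refine Finset.sum_congr rfl fun mu _ => ?_
    rw [lft_apply, us_apply, map_mul, map_sum, H521.GU.ev_conj htc, Finset.mul_sum, Finset.mul_sum, Finset.sum_div,
      Finset.mul_sum]
    refine Finset.sum_congr rfl fun c _ => ?_
    rw [map_div₀, map_mul, H521.GU.ev_conj htc, H521.GU.ev_conj htc]
  rw [hL, hR]
  refine Finset.sum_nbij' (fun p => ⟨p.1.update i p.2, p.1 i⟩) (fun p => ⟨p.1.update i p.2, p.1 i⟩) ?_ ?_ ?_ ?_ ?_
  · rintro ⟨lam, c⟩ hp
    simp only [Finset.mem_sigma, Finset.mem_filter, Col.mem_ofSize, mem_tofDeg (hf _)] at hp ⊢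
    have h1 := tdeg_update d lam i c
    rw [update_same]
    refine ⟨?_, by omega⟩
    rw [hp.1, ← hp.2.2, mul_add] at h1
    omega
  · rintro ⟨mu, c⟩ hp
    simp only [Finset.mem_sigma, Finset.mem_filter, Col.mem_ofSize, mem_tofDeg (hf _)] at hp ⊢
    have h1 := tdeg_update d mu i c
    rw [update_same]
    refine ⟨?_, by omega, by omega⟩
    rw [hp.1, hp.2, mul_add] at h1
    omega
  · rintro ⟨lam, c⟩ _
    simp only [update_same, update_update, Finsupp.update_self]
  · rintro ⟨mu, c⟩ _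
    simp only [update_same, update_update, Finsupp.update_self]
  · rintro ⟨lam, c⟩ hp
    simp only [update_same, update_update, Finsupp.update_self]
    have h1 : Ag d Q (lam.update i c) * ev t (ap (lam i)) = Ag d Q lam * ev t (ap c) := Ag_update d Q lam i c
    have h2 : ev t (ap c) ≠ 0 := ap_ne hgen c
    have h3 : ev t (ap (lam i)) ≠ 0 := ap_ne hgen (lam i)
    have h4 := Ag_ne_zero' d Q hd hQ lam
    have h5 := Ag_ne_zero' d Q hd hQ (lam.update i c)
    have h6 : (Q.sign : ℂ) ^ (d i * j) * (Q.sign : ℂ) ^ (d i * j) = 1 := by rw [← mul_pow, hs, one_pow]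
    have h8 := pow_ne_zero n hs0
    have h9 := pow_ne_zero (d i * j) hs0
    rw [pow_add, div_eq_iff (mul_ne_zero (mul_ne_zero h8 h9) h4)]
    have e1 : (Q.sign : ℂ) ^ (d i * j) * (f (lam.update i c) * (ev t (ap c) *
        (ev t (Np (lam i) c) * conj (x lam) / ev t (ap (lam i)))) / ((Q.sign : ℂ) ^ n * Ag d Q (lam.update i c))) *
        ((Q.sign : ℂ) ^ n * (Q.sign : ℂ) ^ (d i * j) * Ag d Q lam) =
        ((Q.sign : ℂ) ^ (d i * j) * (Q.sign : ℂ) ^ (d i * j)) * (f (lam.update i c) * ev t (Np (lam i) c) * conj (x lam)) *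
          (Ag d Q lam * ev t (ap c)) / (Ag d Q (lam.update i c) * ev t (ap (lam i))) := by
      field_simp
    rw [e1, h6, ← h1, one_mul, mul_div_cancel_right₀ _ (mul_ne_zero h5 h3)]
    ring

theorem Adj_lft_pp (i : I) (m : ℕ) :
    Adj d Q (d i * m) (lft i (pp ((Q : ℂ) ^ d i) m)) (lft i (ps ((Q : ℂ) ^ d i) m)) := by
  rw [lft_pp, lft_ps]
  refine Adj.nwt (fun j => Adj_lft_uu hd hQ hf i j) (fun r j => ?_) m
  rw [← lft_pp]
  exact (H521.GU.Pl_comm_Ul ((Q : ℂ) ^ d i) r j).map (lft i)

end Adj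

/-! ### the adjoint of the cuspidal operators -/

section PS

variable {K : Type*} [Field K] [Finite K] (θ : K →*₀ ℂ) (Q : ℤ) (M : ℕ)

open Classical in
/-- the adjoint of `Pop` -/
noncomputable def PSop (k : ℕ) (c : ZMod M) : Module.End ℂ (Ty (Orb K Q) → ℂ) :=
  ∑ o : Orb K Q, if 0 < k ∧ dOrb K Q o ∣ k then
    conj (thO θ Q M k c o) • lft o (ps ((Q : ℂ) ^ dOrb K Q o) (k / dOrb K Q o)) else 0

theorem Adj_Pop (hQ : 2 ≤ |Q|) (hf : ∀ n, {lam : Ty (Orb K Q) | tdeg (dOrb K Q) lam = n}.Finite) (k : ℕ)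
    (c : ZMod M) : Adj (dOrb K Q) Q k (Pop θ Q M k c) (PSop θ Q M k c) := by
  classical
  rw [Pop_eq, PSop]
  refine Adj.sum _ fun o _ => ?_
  split_ifs with h
  · have h1 := (Adj_lft_pp (d := dOrb K Q) dOrb_pos hQ hf o (k / dOrb K Q o)).smul (thO θ Q M k c o)
    rwa [Nat.mul_div_cancel' h.2] at h1
  · exact Adj.zero

theorem lft_ps_vac {I : Type*} (i : I) (t : ℂ) (m : ℕ) : lft i (ps t m) (vac : Ty I → ℂ) = 0 := by
  classical
  funext lam
  rw [lft_apply]
  have h1 : (fun c => (vac : Ty I → ℂ) (lam.update i c)) = (vac (lam.update i 0) : ℂ) • vacl := by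
    funext c
    rw [Pi.smul_apply, smul_eq_mul, vac, vac, vacl]
    by_cases h0 : lam.update i 0 = 0
    · rw [if_pos h0, one_mul]
      have h2 : lam.update i c = 0 ↔ c = 0 := by
        constructor
        · intro h
          have := DFunLike.congr_fun h i
          rwa [update_same] at this
        · rintro rfl
          exact h0
      by_cases hc : c = 0
      · rw [if_pos (h2.2 hc), if_pos hc]
      · rw [if_neg fun h => hc (h2.1 h), if_neg hc]
    · rw [if_neg h0, zero_mul, if_neg]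
      intro h
      apply h0
      have h3 := DFunLike.congr_fun h i
      rw [update_same] at h3
      rw [← h, h3]
      rfl
  rw [h1, map_smul, show ps t m vacl = 0 from H521.GU.Dp_vacl t, smul_zero]
  rfl

theorem PSop_vac (k : ℕ) (c : ZMod M) : PSop θ Q M k c vac = 0 := by
  classical
  rw [PSop, LinearMap.sum_apply]
  refine Finset.sum_eq_zero fun o _ => ?_
  split_ifs
  · rw [LinearMap.smul_apply, lft_ps_vac, smul_zero]
  · rfl

open Classical in
/-- the sum over the orbits in the Heisenberg relation -/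
noncomputable def orthS (k : ℕ) (c c' : ZMod M) : ℂ :=
  ∑ o : Orb K Q, if dOrb K Q o ∣ k then conj (thO θ Q M k c o) * thO θ Q M k c' o *
    (((k / dOrb K Q o : ℕ) : ℂ) * kap ((Q : ℂ) ^ dOrb K Q o) (k / dOrb K Q o)) else 0

theorem PSop_Pop (hQ : 2 ≤ |Q|) {k : ℕ} (hk : 0 < k) (c : ZMod M) (k' : ℕ) (c' : ZMod M) :
    PSop θ Q M k c * Pop θ Q M k' c' = Pop θ Q M k' c' * PSop θ Q M k c +
      (if k = k' then orthS θ Q M k c c' else 0) • 1 := by
  classical
  have key : ∀ o o' : Orb K Q,
      (if 0 < k ∧ dOrb K Q o ∣ k then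
        conj (thO θ Q M k c o) • lft o (ps ((Q : ℂ) ^ dOrb K Q o) (k / dOrb K Q o)) else 0) *
      (if 0 < k' ∧ dOrb K Q o' ∣ k' then
        thO θ Q M k' c' o' • lft o' (pp ((Q : ℂ) ^ dOrb K Q o') (k' / dOrb K Q o')) else 0) =
      (if 0 < k' ∧ dOrb K Q o' ∣ k' then
        thO θ Q M k' c' o' • lft o' (pp ((Q : ℂ) ^ dOrb K Q o') (k' / dOrb K Q o')) else 0) *
      (if 0 < k ∧ dOrb K Q o ∣ k then
        conj (thO θ Q M k c o) • lft o (ps ((Q : ℂ) ^ dOrb K Q o) (k / dOrb K Q o)) else 0) +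
      (if o = o' then (if k = k' then (if dOrb K Q o ∣ k then conj (thO θ Q M k c o) * thO θ Q M k c' o *
        (((k / dOrb K Q o : ℕ) : ℂ) * kap ((Q : ℂ) ^ dOrb K Q o) (k / dOrb K Q o)) else 0) else 0) else 0) •
        (1 : Module.End ℂ (Ty (Orb K Q) → ℂ)) := by
    intro o o'
    by_cases h1 : 0 < k ∧ dOrb K Q o ∣ k
    · by_cases h2 : 0 < k' ∧ dOrb K Q o' ∣ k'
      · rw [if_pos h1, if_pos h2, smul_mul_smul_comm, smul_mul_smul_comm, mul_comm (thO θ Q M k' c' o')]
        by_cases ho : o = o'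
        · subst ho
          have hgen : Gen ((Q : ℂ) ^ dOrb K Q o) := by
            have h0 : Q ≠ 0 := by
              rintro rfl
              simp at hQ
            refine ⟨pow_ne_zero _ (Int.cast_ne_zero.2 h0), fun j hj h => ?_⟩
            rw [← pow_mul] at h
            have h1 : Q ^ (dOrb K Q o * j) = 1 := by exact_mod_cast h
            have h2 : |Q| ^ (dOrb K Q o * j) = 1 := by rw [← abs_pow, h1, abs_one]
            have h3 : 1 < |Q| ^ (dOrb K Q o * j) := one_lt_pow₀ (by omega) (Nat.mul_pos (dOrb_pos o) hj).ne'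
            omega
          have hr : 0 < k / dOrb K Q o := Nat.div_pos (Nat.le_of_dvd h1.1 h1.2) (dOrb_pos o)
          have h3 := ps_pp H521.GU.i3s hgen hr (k' / dOrb K Q o)
          rw [← map_mul, h3, map_add, map_mul, smul_add, if_pos rfl]
          congr 1
          have h4 : k' / dOrb K Q o = k / dOrb K Q o ↔ k = k' := by
            constructor
            · intro h
              rw [← Nat.div_mul_cancel h1.2, ← Nat.div_mul_cancel h2.2, h]
            · rintro rfl
              rfl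
          by_cases hkk : k = k'
          · subst hkk
            rw [if_pos rfl, if_pos rfl, if_pos h1.2, map_smul, map_one, smul_smul]
          · rw [if_neg hkk, if_neg fun h => hkk (h4.1 h), map_zero, smul_zero, zero_smul]
        · rw [if_neg ho, zero_smul, add_zero, (lft_comm_ps _ _ _ ho).eq]
      · rw [if_neg h2, mul_zero, zero_mul, zero_add]
        by_cases ho : o = o'
        · subst ho
          rw [if_pos rfl]
          by_cases hkk : k = k'
          · subst hkk
            exact absurd h1 h2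
          · rw [if_neg hkk, zero_smul]
        · rw [if_neg ho, zero_smul]
    · rw [if_neg h1, mul_zero, zero_mul, zero_add]
      have h3 : ¬ dOrb K Q o ∣ k := fun h => h1 ⟨hk, h⟩
      rw [if_neg h3]
      simp only [ite_self, zero_smul]
  rw [Pop_eq, PSop, Finset.sum_mul_sum, Finset.sum_mul_sum, Finset.sum_congr rfl fun o _ =>
    Finset.sum_congr rfl fun o' _ => key o o']
  simp only [Finset.sum_add_distrib]
  congr 1
  · exact Finset.sum_comm
  · simp only [← Finset.sum_smul]
    congr 1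
    simp only [Finset.sum_ite_eq, Finset.mem_univ, if_true]
    by_cases hkk : k = k'
    · subst hkk
      simp only [if_true]
      rfl
    · simp only [if_neg hkk, Finset.sum_const_zero]

end PS

end Cfsg.Agent.H531.GU
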