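import Cfsg.Agent.H166.GUC.Cent
import Cfsg.Agent.H451.Sl.Norm

/-!
# S4537 (B-even): Jordan blocks and the determinants of centralizers in `GL_k(E)` (helper531)
-/

set_option autoImplicit false

open Cfsg Cfsg.Agent.H615.GU Polynomial Module

universe u v

namespace Cfsg.Agent.H531.GU

/-- if the centralizer of `A` is contained in the kernel of `α ∘ det` and `A` has a Jordan block of size `i + 1`, then
`α ^ (i + 1) = 1` -/
theorem bEven {E : Type u} {K : Type v} [Field E] [Finite E] [Field K] [Finite K] [Algebra E K] {k : ℕ}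
    (A : GL (Fin k) E) (α : Eˣ →* ℂˣ)
    (h : Subgroup.centralizer ({A} : Set (GL (Fin k) E)) ≤ (H624.Sl.dch k α).ker) (y : K) (i : ℕ)
    (hi : mcol (A : Matrix (Fin k) (Fin k) E) y i ≠ mcol (A : Matrix (Fin k) (Fin k) E) y (i + 1)) (w : Eˣ) :
    α w ^ (i + 1) = 1 := by
  classical
  have hfd : FiniteDimensional E K := Module.Finite.of_finite
  have hint : IsIntegral E y := Algebra.IsIntegral.isIntegral y
  have hirr := minpoly.irreducible hint
  have hsp : ((minpoly E y).map (algebraMap E K)).Splits := Normal.splits' (F := E) (K := K) y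
  have hsep : (minpoly E y).Separable := Algebra.IsSeparable.isSeparable E y
  refine H451.Sl.pow_eq_one_of_centralizer_le A α h (minpoly E y) hirr i ?_ w
  have hk : ∀ j, H624.Sl.kd A ((minpoly E y) ^ j) = _ := fun j => H166.GUC.kd_eq_sum (K := K) A.1 hsep hsp j
  rw [hk, hk, hk]
  simp only [Finset.sum_range_succ, Finset.sum_add_distrib]
  have hy : y ∈ ((minpoly E y).map (algebraMap E K)).roots.toFinset := by
    rw [Multiset.mem_toFinset, mem_roots ((minpoly.monic hint).map _).ne_zero, IsRoot.def, eval_map_algebraMap,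
      minpoly.aeval]
  have h1 : ∑ z ∈ ((minpoly E y).map (algebraMap E K)).roots.toFinset, mcol (A : Matrix (Fin k) (Fin k) E) z (i + 1) <
      ∑ z ∈ ((minpoly E y).map (algebraMap E K)).roots.toFinset, mcol (A : Matrix (Fin k) (Fin k) E) z i :=
    Finset.sum_lt_sum (fun z _ => (mcol (A : Matrix (Fin k) (Fin k) E) z).anti (Nat.le_succ i))
      ⟨y, hy, lt_of_le_of_ne ((mcol (A : Matrix (Fin k) (Fin k) E) y).anti (Nat.le_succ i)) hi.symm⟩
  omega

end Cfsg.Agent.H531.GU
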