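import Cfsg.Agent.H531.GU.Ops

/-!
# S4537, F2: local operators, Heisenberg operators (helper531)

Local operators on functions of partitions, parameter `t`:
* `uu t j` : multiplication by the trivial character of degree `j`; `us t j` : the adjoint;
* `nwt u` : Newton's power sums of a sequence of operators, `m u_m = ∑_{r=1}^m (nwt u r) u_{m-r}`;
* `pp t m = nwt (uu t) m`, `ps t m = nwt (us t) m`.

Global operators on functions of types:
* `lft i A` : `A` acting in the coordinate `i` (an algebra homomorphism);
* `dv d n` : the indices `i` with `d i ∣ n`;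
* `PP d Q a n = ∑_{d i ∣ n} a i • lft i (pp (Q ^ d i) (n / d i))`, `PS` the adjoint;
* `VV d Q a n` : the commutator of `Uop n` with the multiplication by `DD a = ∑ i, a i * |lam i|`;
* `vac` : the function `1` at the empty type.
-/

set_option autoImplicit false
set_option linter.unusedSectionVars false

open scoped ComplexConjugate
open Cfsg Cfsg.Agent.H615.GU Cfsg.Agent.H315.GU

namespace Cfsg.Agent.H531.GU

/-! ### local operators -/

section Local

open Classical in
/-- multiplication by the trivial character of degree `j` -/
noncomputable def uu (t : ℂ) (j : ℕ) : Module.End ℂ (Col → ℂ) where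
  toFun f l := ∑ c ∈ (Col.below l).filter (fun c => c.size + j = l.size), ev t (Np l c) * f c
  map_add' f g := by
    funext l
    simp [mul_add, Finset.sum_add_distrib]
  map_smul' c f := by
    funext l
    simp only [Pi.smul_apply, smul_eq_mul, RingHom.id_apply, Finset.mul_sum]
    exact Finset.sum_congr rfl fun k _ => by ring

theorem uu_apply (t : ℂ) (j : ℕ) (f : Col → ℂ) (l : Col) : uu t j f l =
    open Classical in ∑ c ∈ (Col.below l).filter (fun c => c.size + j = l.size), ev t (Np l c) * f c := rfl

/-- the adjoint of `uu t j` -/
noncomputable def us (t : ℂ) (j : ℕ) : Module.End ℂ (Col → ℂ) where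
  toFun f k := ev t (ap k) * ∑ l ∈ Col.ofSize (k.size + j), ev t (Np l k) * f l / ev t (ap l)
  map_add' f g := by
    funext k
    simp [mul_add, add_div, Finset.sum_add_distrib]
  map_smul' c f := by
    funext k
    simp only [Pi.smul_apply, smul_eq_mul, RingHom.id_apply]
    rw [mul_left_comm, Finset.mul_sum (a := c)]
    congr 1
    exact Finset.sum_congr rfl fun k _ => by ring

theorem us_apply (t : ℂ) (j : ℕ) (f : Col → ℂ) (k : Col) :
    us t j f k = ev t (ap k) * ∑ l ∈ Col.ofSize (k.size + j), ev t (Np l k) * f l / ev t (ap l) := rfl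

end Local

/-! ### Newton sums -/

section Newton

variable {R : Type*} [Ring R]

/-- Newton's power sums of a sequence: `m u_m = ∑_{r=1}^m (nwt u r) u_{m-r}` (if `u 0 = 1`) -/
def nwt (u : ℕ → R) : ℕ → R
  | 0 => 0
  | m + 1 => (m + 1 : ℕ) • u (m + 1) - ∑ r : Fin (m + 1), nwt u r * u (m + 1 - r)

theorem nwt_zero (u : ℕ → R) : nwt u 0 = 0 := by rw [nwt]

theorem nwt_succ (u : ℕ → R) (m : ℕ) :
    nwt u (m + 1) = (m + 1 : ℕ) • u (m + 1) - ∑ r ∈ Finset.range (m + 1), nwt u r * u (m + 1 - r) := by
  rw [nwt, Finset.sum_range]

/-- Newton's identity -/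
theorem nwt_sum {u : ℕ → R} (h0 : u 0 = 1) (m : ℕ) :
    m • u m = ∑ r ∈ Finset.range (m + 1), nwt u r * u (m - r) := by
  cases m with
  | zero => rw [zero_smul, Finset.sum_range_one, nwt_zero, zero_mul]
  | succ m =>
    rw [Finset.sum_range_succ, Nat.sub_self, h0, mul_one, nwt_succ]
    abel

end Newton

/-- the local power sums -/
noncomputable def pp (t : ℂ) (m : ℕ) : Module.End ℂ (Col → ℂ) := nwt (uu t) m

/-- the adjoints of the local power sums -/
noncomputable def ps (t : ℂ) (m : ℕ) : Module.End ℂ (Col → ℂ) := nwt (us t) m

/-! ### lifting -/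

section Lift

variable {I : Type*}

open Classical in
/-- the operator `A` in the coordinate `i` -/
noncomputable def lft0 (i : I) (A : Module.End ℂ (Col → ℂ)) : Module.End ℂ (Ty I → ℂ) where
  toFun f lam := A (fun c => f (lam.update i c)) (lam i)
  map_add' f g := funext fun lam =>
    congrFun (A.map_add (fun c => f (lam.update i c)) (fun c => g (lam.update i c))) (lam i)
  map_smul' r f := funext fun lam => congrFun (A.map_smul r (fun c => f (lam.update i c))) (lam i)

open Classical in
theorem lft0_apply (i : I) (A : Module.End ℂ (Col → ℂ)) (f : Ty I → ℂ) (lam : Ty I) :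
    lft0 i A f lam = A (fun c => f (lam.update i c)) (lam i) := rfl

open Classical in
theorem update_update (lam : Ty I) (i : I) (c c' : Col) : (lam.update i c).update i c' = lam.update i c' := by
  ext1 j
  simp only [Finsupp.coe_update]
  by_cases hj : j = i
  · subst hj
    simp
  · simp [Function.update_of_ne hj]

/-- the operator `A` in the coordinate `i`, as a homomorphism of algebras -/
noncomputable def lft (i : I) : Module.End ℂ (Col → ℂ) →ₐ[ℂ] Module.End ℂ (Ty I → ℂ) where
  toFun := lft0 i
  map_one' := by
    refine LinearMap.ext fun f => funext fun lam => ?_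
    rw [lft0_apply]
    show f (lam.update i (lam i)) = f lam
    rw [Finsupp.update_self]
  map_mul' A B := by
    classical
    refine LinearMap.ext fun f => funext fun lam => ?_
    rw [Module.End.mul_apply, lft0_apply, lft0_apply, Module.End.mul_apply]
    have h : B (fun c => f (lam.update i c)) = fun c => lft0 i B f (lam.update i c) := by
      funext c
      rw [lft0_apply]
      have h1 : (lam.update i c) i = c := by simp
      rw [h1]
      simp only [update_update]
    rw [h]
  map_zero' := rfl
  map_add' A B := rfl
  commutes' r := by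
    refine LinearMap.ext fun f => funext fun lam => ?_
    rw [lft0_apply]
    show r • f (lam.update i (lam i)) = r • f lam
    rw [Finsupp.update_self]

open Classical in
theorem lft_apply (i : I) (A : Module.End ℂ (Col → ℂ)) (f : Ty I → ℂ) (lam : Ty I) :
    lft i A f lam = A (fun c => f (lam.update i c)) (lam i) := rfl

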