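import Cfsg.Agent.H531.GU.Mac
import Cfsg.Agent.H615.GU.Loc

/-!
# S4537: the local operators of the hub (helper531)

`Ul = uu`, `Dl = us`, `newton = nwt`, `Pl = pp`, `Dp = ps`, and the relations of `Mac` in this notation; the lifts to
types: `lft i` is an algebra homomorphism, lifts at different indices commute.
-/

set_option autoImplicit false
set_option linter.unusedSectionVars false

open scoped ComplexConjugate
open Cfsg

namespace Cfsg.Agent.H531.GU

theorem Ul_eq (t : ℂ) (j : ℕ) : H615.GU.Ul t j = uu t j := rfl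

theorem Dl_eq (t : ℂ) (j : ℕ) : H615.GU.Dl t j = us t j := rfl

theorem Pl_eq (t : ℂ) (k : ℕ) : H615.GU.Pl t k = pp t k := rfl

theorem Dp_eq (t : ℂ) (k : ℕ) : H615.GU.Dp t k = ps t k := rfl

theorem lft_eq {I : Type*} (i : I) (T : Module.End ℂ (H615.GU.Col → ℂ)) : H615.GU.lft i T = lft i T := rfl

/-- Newton's identity -/
theorem newton_Ul (t : ℂ) (k : ℕ) : k • H615.GU.Ul t k =
    ∑ i ∈ Finset.range (k + 1), H615.GU.Pl t i * H615.GU.Ul t (k - i) := by
  simp only [Ul_eq, Pl_eq]
  exact nwt_sum (uu_zero t) k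

theorem Pl_zero (t : ℂ) : H615.GU.Pl t 0 = 0 := nwt_zero _

theorem Dp_zero (t : ℂ) : H615.GU.Dp t 0 = 0 := nwt_zero _

/-- Newton's identity for the adjoints -/
theorem newton_Dl {t : ℂ} (ht : Gen t) (k : ℕ) : k • H615.GU.Dl t k =
    ∑ i ∈ Finset.range (k + 1), H615.GU.Dp t i * H615.GU.Dl t (k - i) := by
  simp only [Dl_eq, Dp_eq]
  exact nwt_sum (us_zero ht) k

/-- Mackey's formula -/
theorem Dl_Ul (h3 : I3S) {t : ℂ} (ht : Gen t) (a b : ℕ) : H615.GU.Dl t a * H615.GU.Ul t b =
    ∑ w ∈ Finset.range (min a b + 1), H615.GU.cc t w • (H615.GU.Ul t (b - w) * H615.GU.Dl t (a - w)) :=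
  us_uu h3 ht a b

theorem Dp_Ul (h3 : I3S) {t : ℂ} (ht : Gen t) (r b : ℕ) : H615.GU.Dp t r * H615.GU.Ul t b =
    H615.GU.Ul t b * H615.GU.Dp t r + if r ≤ b then kap t r • H615.GU.Ul t (b - r) else 0 := by
  rw [Dp_eq]
  exact ps_uu h3 ht r b

/-- the Heisenberg relation -/
theorem Dp_Pl (h3 : I3S) {t : ℂ} (ht : Gen t) {r : ℕ} (hr : 0 < r) (m : ℕ) : H615.GU.Dp t r * H615.GU.Pl t m =
    H615.GU.Pl t m * H615.GU.Dp t r + if m = r then (r * kap t r) • 1 else 0 := by
  rw [Dp_eq, Pl_eq]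
  exact ps_pp h3 ht hr m

/-! ### lifts at different indices -/

section Kernel

/-- an operator given by a finitary kernel -/
def Ker (A : Module.End ℂ (H615.GU.Col → ℂ)) : Prop :=
  ∃ (S : H615.GU.Col → Finset H615.GU.Col) (a : H615.GU.Col → H615.GU.Col → ℂ),
    ∀ f l, A f l = ∑ c ∈ S l, a l c * f c

theorem Ker_uu (t : ℂ) (j : ℕ) : Ker (uu t j) := by
  classical
  exact ⟨fun l => (H615.GU.Col.below l).filter (fun c => c.size + j = l.size),
    fun l c => H615.GU.ev t (H615.GU.Np l c), fun f l => uu_apply t j f l⟩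

theorem Ker_us (t : ℂ) (j : ℕ) : Ker (us t j) := by
  classical
  refine ⟨fun k => H615.GU.Col.ofSize (k.size + j),
    fun k l => H615.GU.ev t (H615.GU.ap k) * (H615.GU.ev t (H615.GU.Np l k) / H615.GU.ev t (H615.GU.ap l)), fun f k => ?_⟩
  rw [us_apply, Finset.mul_sum]
  exact Finset.sum_congr rfl fun l _ => by ring

variable {I : Type*}

theorem update_comm (lam : H615.GU.Ty I) {i i' : I} (h : i ≠ i') (c c' : H615.GU.Col) :
    (lam.update i c).update i' c' = (lam.update i' c').update i c := by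
  classical
  ext1 j
  simp only [Finsupp.coe_update]
  rw [Function.update_comm h]

theorem update_ne (lam : H615.GU.Ty I) {i i' : I} (h : i ≠ i') (c : H615.GU.Col) : (lam.update i c) i' = lam i' := by
  classical
  rw [Finsupp.coe_update, Function.update_of_ne h.symm]

theorem update_same (lam : H615.GU.Ty I) (i : I) (c : H615.GU.Col) : (lam.update i c) i = c := by
  classical
  rw [Finsupp.coe_update, Function.update_self]

theorem lft_comm_ker {A : Module.End ℂ (H615.GU.Col → ℂ)} (hA : Ker A) (B : Module.End ℂ (H615.GU.Col → ℂ))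
    {i i' : I} (h : i ≠ i') : Commute (lft i A) (lft i' B) := by
  classical
  obtain ⟨S, a, hA⟩ := hA
  refine LinearMap.ext fun f => funext fun lam => ?_
  rw [Module.End.mul_apply, Module.End.mul_apply, lft_apply, hA]
  have h2 : lft i A f = fun mu => ∑ c ∈ S (mu i), a (mu i) c * f (mu.update i c) := by
    funext mu
    rw [lft_apply, hA]
  rw [h2, lft_apply]
  have h3 : (fun c' => (fun mu => ∑ c ∈ S (mu i), a (mu i) c * f (mu.update i c)) (lam.update i' c')) =
      ∑ c ∈ S (lam i), a (lam i) c • fun c' => f ((lam.update i c).update i' c') := by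
    funext c'
    rw [Finset.sum_apply]
    simp only [update_ne lam h.symm, Pi.smul_apply, smul_eq_mul]
    exact Finset.sum_congr rfl fun c _ => by rw [update_comm lam h.symm]
  rw [h3, map_sum, Finset.sum_apply]
  refine Finset.sum_congr rfl fun c _ => ?_
  rw [map_smul, Pi.smul_apply, smul_eq_mul, lft_apply]
  rw [update_ne lam h]

theorem lft_pp (i : I) (t : ℂ) (m : ℕ) : lft i (pp t m) = nwt (fun j => lft i (uu t j)) m := map_nwt _ _ _

theorem lft_ps (i : I) (t : ℂ) (m : ℕ) : lft i (ps t m) = nwt (fun j => lft i (us t j)) m := map_nwt _ _ _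

theorem lft_comm_pp (t : ℂ) (m : ℕ) (B : Module.End ℂ (H615.GU.Col → ℂ)) {i i' : I} (h : i ≠ i') :
    Commute (lft i (pp t m)) (lft i' B) := by
  rw [lft_pp]
  exact (nwt_commute (fun j => (lft_comm_ker (Ker_uu t j) B h).symm) m).symm

theorem lft_comm_ps (t : ℂ) (m : ℕ) (B : Module.End ℂ (H615.GU.Col → ℂ)) {i i' : I} (h : i ≠ i') :
    Commute (lft i (ps t m)) (lft i' B) := by
  rw [lft_ps]
  exact (nwt_commute (fun j => (lft_comm_ker (Ker_us t j) B h).symm) m).symm

end Kernel

end Cfsg.Agent.H531.GU
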