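import Cfsg.Agent.H531.GU.Adj
import Cfsg.Agent.H623.GLn.Wick
import Cfsg.Agent.H614.GLn.RSForm

/-!
# S4537, R2: the evaluation of the standard model is an isometry (helper531)

* `PSop_rho` : `PSop v` acts as the derivation `sign ^ k * zz v • pderiv v`;
* `ipt_evR` : `ipt n (evR x) (evR y) = form x y` for `x`, `y` of weight `n ≤ N`.
-/

set_option autoImplicit false
set_option linter.unusedSectionVars false

open scoped ComplexConjugate
open Cfsg Cfsg.Agent.H615.GU Cfsg.Agent.H315.GU Cfsg.Agent.H577.GLB.Std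

universe u

namespace Cfsg.Agent.H531.GU

open MvPolynomial

section Der

variable {σ : Type*}

theorem pderiv_supported {S : Set σ} (v : σ) {y : MvPolynomial σ ℂ} (hy : y ∈ supported ℂ S) :
    pderiv v y ∈ supported ℂ S := by
  classical
  rw [supported_eq_adjoin_X] at hy ⊢
  induction hy using Algebra.adjoin_induction with
  | mem x hx =>
    obtain ⟨w, hw, rfl⟩ := hx
    by_cases h : w = v
    · subst h
      rw [pderiv_X_self]
      exact Subalgebra.one_mem _
    · rw [pderiv_X_of_ne h]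
      exact Subalgebra.zero_mem _
  | algebraMap r =>
    rw [Derivation.map_algebraMap]
    exact Subalgebra.zero_mem _
  | add x y _ _ hx hy =>
    rw [map_add]
    exact Subalgebra.add_mem _ hx hy
  | mul x y hx' hy' hx hy =>
    rw [Derivation.leibniz, smul_eq_mul, smul_eq_mul]
    exact Subalgebra.add_mem _ (Subalgebra.mul_mem _ hx' hy) (Subalgebra.mul_mem _ hy' hx)

end Der

section Main

variable {K : Type*} [Field K] [Finite K] {θ : K →*₀ ℂ} {Q : ℤ} {M N : ℕ}

/-- the orthogonality relations of the characters of the tori -/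
def OrthS (θ : K →*₀ ℂ) (Q : ℤ) (M N : ℕ) : Prop :=
  ∀ (k : ℕ) (c c' : ZMod M), 0 < k → k ≤ N → TorZ Q M k c → TorZ Q M k c' →
    orthS θ Q M k c c' = (Q.sign : ℂ) ^ k *
      ((open Classical in ((Finset.range k).filter fun j => (Q : ZMod M) ^ j * c' = c).card : ℕ) : ℂ)

theorem orth_gen [NeZero M] (hO : OrthS θ Q M N) {v w : Var M} (hv : GenVar Q M v) (hw : GenVar Q M w)
    (hN : v.1 ≤ N) : (if v.1 = w.1 then orthS θ Q M v.1 v.2 w.2 else 0) =
      if w = v then (Q.sign : ℂ) ^ v.1 * (zz Q M v : ℂ) else 0 := by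
  classical
  obtain ⟨k, c⟩ := v
  obtain ⟨k', c'⟩ := w
  obtain ⟨hk, hT, hc⟩ := hv
  obtain ⟨hk', hT', hc'⟩ := hw
  simp only at hk hT hc hk' hT' hc' hN ⊢
  by_cases hkk : k = k'
  · subst hkk
    rw [if_pos rfl, hO k c c' hk hN hT hT']
    by_cases hcc : c' = c
    · subst hcc
      rw [if_pos rfl, zz]
    · rw [if_neg fun h => hcc (Prod.ext_iff.1 h).2, Finset.filter_false_of_mem, Finset.card_empty, Nat.cast_zero,
        mul_zero]
      intro j _ hj
      exact hcc (H623.GLn.eq_of_canon hk hT' hc' hc hj.symm).symm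
  · rw [if_neg hkk, if_neg fun h => hkk (Prod.ext_iff.1 h).1.symm]

theorem PSop_rho [NeZero M] (hQ : 2 ≤ |Q|) (hO : OrthS θ Q M N) {rho : RS M →ₐ[ℂ] Module.End ℂ (Ty (Orb K Q) → ℂ)}
    (hrho : ∀ v : Var M, rho (X v) = Pop θ Q M v.1 v.2) {v : Var M} (hv : GenVar Q M v) (hN : v.1 ≤ N)
    {y : RS M} (hy : y ∈ supported ℂ {v : Var M | GenVar Q M v}) :
    PSop θ Q M v.1 v.2 * rho y = rho y * PSop θ Q M v.1 v.2 +
      rho (((Q.sign : ℂ) ^ v.1 * (zz Q M v : ℂ)) • pderiv v y) := by
  classical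
  rw [supported_eq_adjoin_X] at hy
  induction hy using Algebra.adjoin_induction with
  | mem x hx =>
    obtain ⟨w, hw, rfl⟩ := hx
    rw [hrho, PSop_Pop θ Q M hQ hv.1, orth_gen hO hv hw hN]
    congr 1
    by_cases h : w = v
    · subst h
      rw [if_pos rfl, pderiv_X_self, map_smul, map_one]
    · rw [if_neg h, pderiv_X_of_ne h, smul_zero, map_zero, zero_smul]
  | algebraMap r =>
    rw [Derivation.map_algebraMap, smul_zero, map_zero, add_zero, AlgHom.commutes]
    exact (Algebra.commutes r _).symm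
  | add x y _ _ hx hy => rw [map_add, mul_add, hx, hy, map_add, smul_add, map_add, add_mul]; abel
  | mul x y _ _ hx hy =>
    rw [map_mul, ← mul_assoc, hx, add_mul, mul_assoc, hy, Derivation.leibniz, smul_eq_mul, smul_eq_mul, smul_add,
      map_add, mul_add, mul_assoc]
    have h1 : rho x * rho (((Q.sign : ℂ) ^ v.1 * (zz Q M v : ℂ)) • pderiv v y) =
        rho (((Q.sign : ℂ) ^ v.1 * (zz Q M v : ℂ)) • (x * pderiv v y)) := by
      rw [← map_mul, mul_smul_comm]
    have h2 : rho (((Q.sign : ℂ) ^ v.1 * (zz Q M v : ℂ)) • pderiv v x) * rho y =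
        rho (((Q.sign : ℂ) ^ v.1 * (zz Q M v : ℂ)) • (y * pderiv v x)) := by
      rw [← map_mul, smul_mul_assoc, mul_comm y]
    rw [h1, h2, add_assoc]

theorem evR_zero_apply {y : RS M} (hy : y ∈ supported ℂ {v : Var M | GenVar Q M v}) :
    evR θ Q M y 0 = coeff 0 y := by
  classical
  have hT0 : tdeg (dOrb K Q) (0 : Ty (Orb K Q)) = 0 := Finsupp.sum_zero_index
  rw [mem_supported] at hy
  conv_lhs => rw [y.as_sum, map_sum, Finset.sum_apply]
  have h1 : ∀ m ∈ y.support, evR θ Q M (monomial m (coeff m y)) 0 = if m = 0 then coeff 0 y else 0 := by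
    intro m hm
    split_ifs with h
    · subst h
      have h2 : (monomial (0 : Var M →₀ ℕ) (coeff 0 y) : RS M) = coeff 0 y • (1 : RS M) := by
        rw [smul_eq_C_mul, mul_one]
        rfl
      rw [h2, map_smul, evR_one, Pi.smul_apply, smul_eq_mul, vac, if_pos rfl, mul_one]
    · refine evR_supp θ Q M H521.GU.i2s (n := Finsupp.weight (fun v : Var M => v.1) m) ?_ 0 ?_
      · rw [mem_weightedHomogeneousSubmodule]
        exact isWeightedHomogeneous_monomial _ _ _ rfl
      · rw [hT0]
        intro h0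
        obtain ⟨v, hv⟩ : ∃ v, v ∈ m.support := by
          by_contra hcon
          push Not at hcon
          exact h (Finsupp.support_eq_empty.1 (Finset.eq_empty_of_forall_notMem hcon))
        have hg : GenVar Q M v := hy (Finset.mem_coe.2 ((mem_vars_iff_mem_support v).2 ⟨m, hm, hv⟩))
        have h3 : m v • v.1 ≤ Finsupp.weight (fun v : Var M => v.1) m := by
          rw [Finsupp.weight_apply, Finsupp.sum]
          exact Finset.single_le_sum (f := fun v => m v • v.1) (fun _ _ => Nat.zero_le _) hv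
        have h4 : 0 < m v := Nat.pos_of_ne_zero (Finsupp.mem_support_iff.1 hv)
        have h5 := Nat.mul_pos h4 hg.1
        rw [smul_eq_mul] at h3
        omega
  rw [Finset.sum_congr rfl h1, Finset.sum_ite_eq']
  split_ifs with h
  · rfl
  · exact (notMem_support_iff.1 h).symm

/-- the isometry for monomials -/
theorem ipt_mono [NeZero M] (ctx : CtxQ θ Q M N) (hO : OrthS θ Q M N) (e : ℕ) : ∀ m : Var M →₀ ℕ,
    Finsupp.degree m = e →
    (∀ v ∈ m.support, GenVar Q M v) → Finsupp.weight (fun v : Var M => v.1) m ≤ N →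
    ∀ y : RS M, y ∈ supported ℂ {v : Var M | GenVar Q M v} →
    ipt (dOrb K Q) Q (Finsupp.weight (fun v : Var M => v.1) m) (evR θ Q M (monomial m 1)) (evR θ Q M y) =
      form Q M (monomial m 1) y := by
  classical
  obtain ⟨rho, hrho, hev⟩ := exists_rho θ Q M H521.GU.i2s
  have hf := finite_tdeg ctx
  have hs : (Q.sign : ℂ) * (Q.sign : ℂ) = 1 := by
    rw [← Int.cast_mul, sign_mul_self (d := dOrb K Q) dOrb_pos ctx.two, Int.cast_one]
  induction e with
  | zero =>
    intro m hm _ _ y hy
    rw [Finsupp.degree_eq_zero_iff] at hm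
    subst hm
    have hT0 : tdeg (dOrb K Q) (0 : Ty (Orb K Q)) = 0 := Finsupp.sum_zero_index
    have h1 : (monomial (0 : Var M →₀ ℕ) (1 : ℂ) : RS M) = 1 := rfl
    rw [map_zero, H614.GLn.RSt.form_monomial_left, one_mul, h1, evR_one, ipt, Finset.sum_eq_single 0]
    · rw [vac, if_pos rfl, one_mul, pow_zero, one_mul, evR_zero_apply hy]
      have h2 : Ag (dOrb K Q) Q (0 : Ty (Orb K Q)) = 1 := by
        rw [Ag, Finsupp.support_zero, Finset.prod_empty]
      rw [h2, div_one, H614.GLn.RSt.Nf, Finsupp.prod_zero_index, mul_one]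
    · intro lam _ hne
      rw [vac, if_neg hne, zero_mul, zero_div]
    · intro h
      exact absurd ((mem_tofDeg (hf 0)).2 hT0) h
  | succ e ih =>
    intro m hm hgen hw y hy
    obtain ⟨v, hv⟩ : ∃ v, v ∈ m.support := by
      by_contra hcon
      push Not at hcon
      rw [Finsupp.support_eq_empty.1 (Finset.eq_empty_of_forall_notMem hcon), map_zero] at hm
      omega
    have hv0 : m v ≠ 0 := Finsupp.mem_support_iff.1 hv
    have hg := hgen v hv
    obtain ⟨m', hm'⟩ : ∃ m', m = m' + Finsupp.single v 1 := ⟨_, (Finsupp.sub_add_single_one_cancel hv0).symm⟩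
    have hwt : Finsupp.weight (fun v : Var M => v.1) m = Finsupp.weight (fun v : Var M => v.1) m' + v.1 := by
      rw [hm', map_add, Finsupp.weight_single, one_smul]
    have hdeg : Finsupp.degree m' = e := by
      rw [hm', map_add, Finsupp.degree_single] at hm
      omega
    have hgen' : ∀ w ∈ m'.support, GenVar Q M w := by
      intro w hw'
      refine hgen w ?_
      rw [Finsupp.mem_support_iff] at hw' ⊢
      rw [hm', Finsupp.add_apply]
      omega
    have h1 : (monomial m 1 : RS M) = X v * monomial m' 1 := by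
      rw [X, monomial_mul, one_mul, hm', add_comm]
    have h2 : PSop θ Q M v.1 v.2 (evR θ Q M y) =
        evR θ Q M (((Q.sign : ℂ) ^ v.1 * (zz Q M v : ℂ)) • pderiv v y) := by
      have h3 := PSop_rho ctx.two hO hrho hg (by omega) hy
      have h4 := congrArg (fun A : Module.End ℂ (Ty (Orb K Q) → ℂ) => A vac) h3
      simp only [Module.End.mul_apply, LinearMap.add_apply] at h4
      rw [hev, hev, h4, PSop_vac, map_zero, zero_add]
    rw [h1, hwt, evR_X_mul θ Q M H521.GU.i2s, Adj_Pop θ Q M ctx.two hf v.1 v.2, h2, H614.GLn.RSt.form_X_mul,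
      ih m' hdeg hgen' (by omega) _ (Subalgebra.smul_mem _ (pderiv_supported v hy) _), H614.GLn.RSt.Dv_apply,
      H614.GLn.RSt.form_smul_right, H614.GLn.RSt.form_smul_right, map_mul, map_pow, map_intCast,
      Complex.conj_natCast, ← mul_assoc, ← mul_assoc, ← mul_pow, hs, one_pow, one_mul]

/-- **R2**: the isometry -/
theorem ipt_evR (ctx : CtxQ θ Q M N) (hO : OrthS θ Q M N) {n : ℕ} (hn : n ≤ N) {x y : RS M}
    (hx : x ∈ Hom Q M n) (hy : y ∈ Hom Q M n) :
    ipt (dOrb K Q) Q n (evR θ Q M x) (evR θ Q M y) = form Q M x y := by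
  classical
  have := CtxQ.neM ctx
  have hy' := H623.GLn.genR_le Q hy.1
  rw [x.as_sum, map_sum, ipt_sum_left, H614.GLn.RSt.form_sum_left]
  refine Finset.sum_congr rfl fun m hm => ?_
  have h1 : (monomial m (coeff m x) : RS M) = coeff m x • monomial m 1 := by
    rw [smul_monomial, smul_eq_mul, mul_one]
  have h2 := H623.GLn.Hom.weight hx hm
  have h3 := ipt_mono ctx hO _ m rfl (fun v hv => H623.GLn.Hom.genVar hx hm hv) (by rw [h2]; exact hn) y hy'
  rw [h2] at h3
  rw [h1, map_smul, ipt_smul_left, H614.GLn.RSt.form_smul_left, h3]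

/-- R2 in the group -/
theorem classInner_evR (ctx : CtxQ θ Q M N) (hO : OrthS θ Q M N) {n : ℕ} (hn : n ≤ N) {G : Type u} [Group G]
    [Finite G] [Fintype G] (T : TypeData (dOrb K Q) Q G n) {x y : RS M}
    (hx : x ∈ Hom Q M n) (hy : y ∈ Hom Q M n) :
    classInner (fun g => evR θ Q M x (T.typ g)) (fun g => evR θ Q M y (T.typ g)) = form Q M x y := by
  rw [classInner_typ T dOrb_pos ctx.two, ipt_evR ctx hO hn hx hy]

end Main

end Cfsg.Agent.H531.GU
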