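import Cfsg.Agent.H531.GU.Br

/-!
# S4537, B2 (global): Newton's identities for the operators on functions of types (helper531)

* `lft_uu_UF`, `UF_split` : products of a local operator and an operator `UF`;
* `newton_UF` : `∑ m, lft i (pp t m) * UF (v ↦ H (v + m e_i)) = UF (v ↦ v_i H v)`;
* `Wt g v = ∏ g_i ^ v_i`, `Eop d Q g n k = UF (v ↦ [vdeg v = n] coeff_k (Wt g v))`, `PQ d Q g r a`;
* `Eop_rec` : `n E_{n,k} = ∑_{r=1}^n ∑_{a+b=k} PQ_{r,a} E_{n-r,b}`.
-/

set_option autoImplicit false
set_option linter.unusedSectionVars false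

open scoped ComplexConjugate
open Cfsg Cfsg.Agent.H615.GU Cfsg.Agent.H315.GU

namespace Cfsg.Agent.H531.GU

variable {I : Type*} (d : I → ℕ) (Q : ℤ)

theorem UF_sum {ι : Type*} (s : Finset ι) (F : ι → (I →₀ ℕ) → ℂ) :
    UF d Q (fun v => ∑ x ∈ s, F x v) = ∑ x ∈ s, UF d Q (F x) := by
  classical
  refine LinearMap.ext fun f => funext fun lam => ?_
  rw [UF_apply, LinearMap.sum_apply, Finset.sum_apply]
  simp only [UF_apply]
  rw [Finset.sum_comm]
  refine Finset.sum_congr rfl fun k _ => ?_
  rw [Finset.mul_sum, Finset.sum_mul]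

theorem UF_smul (c : ℂ) (F : (I →₀ ℕ) → ℂ) : UF d Q (fun v => c * F v) = c • UF d Q F := by
  refine LinearMap.ext fun f => funext fun lam => ?_
  rw [UF_apply, LinearMap.smul_apply, Pi.smul_apply, UF_apply, smul_eq_mul, Finset.mul_sum]
  exact Finset.sum_congr rfl fun k _ => by ring

theorem UF_zero : UF d Q (fun _ => 0) = 0 := by
  refine LinearMap.ext fun f => funext fun lam => ?_
  rw [UF_apply]
  simp

open Classical in
theorem UF_one : UF d Q (fun v => if v = 0 then 1 else 0) = 1 := by
  refine LinearMap.ext fun f => funext fun lam => ?_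
  rw [UF_apply, Module.End.one_apply, Finset.sum_eq_single lam]
  · rw [tsub_self, if_pos rfl, Ng_self, one_mul, one_mul]
  · intro k hk hne
    rw [mem_tbelow] at hk
    rw [if_neg, mul_zero, zero_mul]
    intro h
    apply hne
    ext1 i
    refine col_eq_of_le (hk i) ?_
    have h1 := DFunLike.congr_fun h i
    have h2 := Col.size_mono (hk i)
    simp only [Finsupp.coe_tsub, Pi.sub_apply, sz_apply, Finsupp.coe_zero, Pi.zero_apply] at h1
    omega
  · intro h
    exact absurd (mem_tbelow.2 fun i => le_rfl) h

theorem lft_uu_UF (i : I) (j : ℕ) (F : (I →₀ ℕ) → ℂ) :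
    lft i (uu ((Q : ℂ) ^ d i) j) * UF d Q (fun v => if v i = 0 then F (v + Finsupp.single i j) else 0) =
      UF d Q (fun v => if v i = j then F v else 0) := by
  classical
  refine LinearMap.ext fun f => funext fun lam => ?_
  rw [Module.End.mul_apply, lft_apply, uu_apply, UF_apply]
  have h1 : ∑ k ∈ tbelow lam, Ng d Q lam k * (if (sz lam - sz k) i = j then F (sz lam - sz k) else 0) * f k =
      ∑ c ∈ Col.below (lam i), ∑ k ∈ (tbelow lam).filter (fun k => k i = c),
        Ng d Q lam k * (if (sz lam - sz k) i = j then F (sz lam - sz k) else 0) * f k := by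
    rw [Finset.sum_fiberwise_of_maps_to (g := fun k : Ty I => k i)]
    intro k hk
    rw [mem_tbelow] at hk
    rw [Col.mem_below]
    exact hk i
  rw [h1, Finset.sum_filter]
  refine Finset.sum_congr rfl fun c hc => ?_
  rw [Col.mem_below] at hc
  have hcs := Col.size_mono hc
  by_cases h : c.size + j = (lam i).size
  · rw [if_pos h, UF_apply, Finset.mul_sum]
    symm
    refine Finset.sum_subset_zero_on_sdiff ?_ ?_ ?_
    · intro k hk
      rw [Finset.mem_filter, mem_tbelow] at hk
      rw [mem_tbelow]
      intro i'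
      by_cases hi : i' = i
      · subst hi
        rw [update_same, hk.2]
      · rw [update_ne lam (Ne.symm hi)]
        exact hk.1 i'
    · intro k hk
      rw [Finset.mem_sdiff, mem_tbelow, Finset.mem_filter, mem_tbelow] at hk
      have h2 := hk.1 i
      rw [update_same] at h2
      have h3 : k i ≠ c := by
        intro h3
        refine hk.2 ⟨fun i' => ?_, h3⟩
        by_cases hi : i' = i
        · subst hi
          rw [h3]
          exact hc
        · have := hk.1 i'
          rwa [update_ne lam (Ne.symm hi)] at this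
      have h4 : (sz (lam.update i c) - sz k) i ≠ 0 := by
        rw [Finsupp.coe_tsub, Pi.sub_apply, sz_apply, sz_apply, update_same]
        intro h5
        exact h3 (col_eq_of_le h2 (by
          have := Col.size_mono h2
          omega))
      rw [if_neg h4, mul_zero, zero_mul, mul_zero]
    · intro k hk
      rw [Finset.mem_filter, mem_tbelow] at hk
      have h2 : (sz lam - sz k) i = j := by
        rw [Finsupp.coe_tsub, Pi.sub_apply, sz_apply, sz_apply, hk.2]
        omega
      have h3 : (sz (lam.update i c) - sz k) i = 0 := by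
        rw [Finsupp.coe_tsub, Pi.sub_apply, sz_apply, sz_apply, update_same, hk.2, Nat.sub_self]
      have h4 : sz (lam.update i c) - sz k + Finsupp.single i j = sz lam - sz k := by
        ext i'
        rw [Finsupp.add_apply]
        by_cases hi : i' = i
        · subst hi
          rw [h3, h2, Finsupp.single_eq_same, zero_add]
        · rw [Finsupp.single_eq_of_ne hi, add_zero, Finsupp.coe_tsub, Finsupp.coe_tsub, Pi.sub_apply, Pi.sub_apply,
            sz_apply, sz_apply, sz_apply, update_ne lam (Ne.symm hi)]
      rw [if_pos h2, if_pos h3, h4]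
      have hsup : k.support ⊆ insert i lam.support := (support_subset hk.1).trans (Finset.subset_insert _ _)
      have h5 : Ng d Q lam k = ev ((Q : ℂ) ^ d i) (Np (lam i) c) * Ng d Q (lam.update i c) k := by
        rw [Ng_eq_prod d Q hsup, Ng_eq_prod d Q hsup,
          ← Finset.mul_prod_erase _ _ (Finset.mem_insert_self i lam.support),
          ← Finset.mul_prod_erase _ (fun i' => ev ((Q : ℂ) ^ d i') (Np ((lam.update i c) i') (k i')))
            (Finset.mem_insert_self i lam.support), hk.2, update_same, Np_self, one_mul]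
        congr 1
        refine Finset.prod_congr rfl fun i' hi' => ?_
        rw [update_ne lam (Finset.ne_of_mem_erase hi').symm]
      rw [h5]
      ring
  · rw [if_neg h]
    symm
    refine Finset.sum_eq_zero fun k hk => ?_
    rw [Finset.mem_filter] at hk
    rw [if_neg, mul_zero, zero_mul]
    rw [Finsupp.coe_tsub, Pi.sub_apply, sz_apply, sz_apply, hk.2]
    omega

theorem UF_split (i : I) (L : ℕ) (F : (I →₀ ℕ) → ℂ) (hF : ∀ v, L < v i → F v = 0) :
    UF d Q F = ∑ j ∈ Finset.range (L + 1), lft i (uu ((Q : ℂ) ^ d i) j) *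
      UF d Q (fun v => if v i = 0 then F (v + Finsupp.single i j) else 0) := by
  rw [Finset.sum_congr rfl fun j _ => lft_uu_UF d Q i j F, ← UF_sum]
  congr 1
  funext v
  rw [Finset.sum_ite_eq]
  split_ifs with h
  · rfl
  · rw [Finset.mem_range, not_lt] at h
    exact hF v h

/-- the derivation given by one coordinate -/
theorem newton_UF (i : I) (L : ℕ) (H : (I →₀ ℕ) → ℂ) (hH : ∀ v, L < v i → H v = 0) :
    ∑ m ∈ Finset.range (L + 1), lft i (pp ((Q : ℂ) ^ d i) m) * UF d Q (fun v => H (v + Finsupp.single i m)) =
      UF d Q (fun v => (v i : ℂ) * H v) := by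
  classical
  set t : ℂ := (Q : ℂ) ^ d i with ht
  set X : ℕ → Module.End ℂ (Ty I → ℂ) := fun j => UF d Q (fun v => if v i = 0 then H (v + Finsupp.single i j) else 0)
    with hX
  have h1 : ∀ m ∈ Finset.range (L + 1), lft i (pp t m) * UF d Q (fun v => H (v + Finsupp.single i m)) =
      ∑ j ∈ Finset.range (L - m + 1), lft i (pp t m * uu t j) * X (m + j) := by
    intro m hm
    rw [Finset.mem_range] at hm
    rw [UF_split d Q i (L - m), Finset.mul_sum]
    · refine Finset.sum_congr rfl fun j _ => ?_
      rw [← mul_assoc, map_mul, hX]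
      simp only [add_assoc, ← Finsupp.single_add, add_comm j m]
      rfl
    · intro v hv
      refine hH _ ?_
      rw [Finsupp.add_apply, Finsupp.single_eq_same]
      omega
  rw [Finset.sum_congr rfl h1, trip_group L fun m j _ => lft i (pp t m * uu t j) * X (m + j)]
  rw [UF_split d Q i L]
  · refine Finset.sum_congr rfl fun s _ => ?_
    have h2 : ∀ r ∈ Finset.range (s + 1), lft i (pp t r * uu t (s - r)) * X (r + (s - r)) =
        lft i (pp t r * uu t (s - r)) * X s := by
      intro r hr
      rw [Finset.mem_range] at hr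
      rw [Nat.add_sub_cancel' (by omega)]
    have h3 : UF d Q (fun v => if v i = 0 then ((v + Finsupp.single i s) i : ℂ) * H (v + Finsupp.single i s) else 0) =
        (s : ℂ) • X s := by
      rw [hX]
      simp only []
      rw [← UF_smul]
      congr 1
      funext v
      by_cases hv : v i = 0
      · rw [if_pos hv, if_pos hv, Finsupp.add_apply, hv, Finsupp.single_eq_same, zero_add]
      · rw [if_neg hv, if_neg hv, mul_zero]
    have h4 : ∑ r ∈ Finset.range (s + 1), pp t r * uu t (s - r) = s • uu t s := (nwt_sum (uu_zero t) s).symm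
    rw [Finset.sum_congr rfl h2, ← Finset.sum_mul, ← map_sum, h4, h3, map_nsmul, smul_mul_assoc,
      mul_smul_comm, Nat.cast_smul_eq_nsmul]
  · intro v hv
    rw [hH v hv, mul_zero]

/-! ### weights -/

section Weights

variable {A : Type*} [CommRing A] (g : I → A)

/-- the weight `∏ g_i ^ v_i` -/
noncomputable def Wt (v : I →₀ ℕ) : A := v.prod fun i a => g i ^ a

theorem Wt_zero : Wt g 0 = 1 := Finsupp.prod_zero_index

theorem Wt_add (v w : I →₀ ℕ) : Wt g (v + w) = Wt g v * Wt g w := by
  classical
  unfold Wt
  exact Finsupp.prod_add_index' (fun i => pow_zero _) (fun i a b => pow_add _ _ _)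

theorem Wt_single (i : I) (m : ℕ) : Wt g (Finsupp.single i m) = g i ^ m := by
  unfold Wt
  exact Finsupp.prod_single_index (pow_zero _)

theorem vdeg_single (i : I) (m : ℕ) : vdeg d (Finsupp.single i m) = d i * m := by
  unfold vdeg
  exact Finsupp.sum_single_index (mul_zero _)

theorem mul_le_vdeg (v : I →₀ ℕ) (i : I) : d i * v i ≤ vdeg d v := by
  classical
  by_cases hi : i ∈ v.support
  · exact Finset.single_le_sum (f := fun i => d i * v i) (fun _ _ => Nat.zero_le _) hi
  · rw [Finsupp.notMem_support_iff.1 hi, mul_zero]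
    exact Nat.zero_le _

theorem vdeg_fintype [Fintype I] (v : I →₀ ℕ) : vdeg d v = ∑ i, d i * v i := by
  classical
  unfold vdeg
  rw [Finsupp.sum_fintype]
  intro i
  exact mul_zero _

end Weights

section Neck

open Polynomial

variable (g : I → ℂ[X])

/-- the necklace operators -/
noncomputable def Eop (n k : ℕ) : Module.End ℂ (Ty I → ℂ) :=
  UF d Q fun v => if vdeg d v = n then (Wt g v).coeff k else 0

/-- the power sum operators of the necklace recursion -/
noncomputable def PQ [Fintype I] (r a : ℕ) : Module.End ℂ (Ty I → ℂ) :=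
  ∑ i, if d i ∣ r then (d i * (g i ^ (r / d i)).coeff a : ℂ) • lft i (pp ((Q : ℂ) ^ d i) (r / d i)) else 0

theorem PQ_zero [Fintype I] (a : ℕ) : PQ d Q g 0 a = 0 := by
  unfold PQ
  refine Finset.sum_eq_zero fun i _ => ?_
  rw [Nat.zero_div, pp, nwt_zero, map_zero, smul_zero, ite_self]

theorem Eop_zero (hd : ∀ i, 0 < d i) (k : ℕ) : Eop d Q g 0 k = if k = 0 then 1 else 0 := by
  classical
  have h : ∀ v : I →₀ ℕ, vdeg d v = 0 ↔ v = 0 := by
    intro v
    constructor
    · intro h
      ext i
      have h1 := mul_le_vdeg d v i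
      rw [h] at h1
      rcases Nat.eq_zero_or_pos (v i) with h2 | h2
      · exact h2
      · have := Nat.mul_pos (hd i) h2
        omega
    · rintro rfl
      exact vdeg_zero d
  unfold Eop
  have h1 : (fun v : I →₀ ℕ => if vdeg d v = 0 then (Wt g v).coeff k else 0) =
      fun v => (if k = 0 then (1 : ℂ) else 0) * if v = 0 then 1 else 0 := by
    funext v
    by_cases hv : v = 0
    · rw [if_pos ((h v).2 hv), if_pos hv, hv, Wt_zero, coeff_one, mul_one]
    · rw [if_neg fun h' => hv ((h v).1 h'), if_neg hv, mul_zero]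
  rw [h1, UF_smul, UF_one]
  split_ifs
  · rw [one_smul]
  · rw [zero_smul]

theorem Eop_rec [Fintype I] (hd : ∀ i, 0 < d i) (n k : ℕ) : n • Eop d Q g n k =
    ∑ r ∈ Finset.range (n + 1), ∑ y ∈ Finset.HasAntidiagonal.antidiagonal k, PQ d Q g r y.1 * Eop d Q g (n - r) y.2 := by
  classical
  -- one coordinate
  have key : ∀ i : I, UF d Q (fun v => (v i : ℂ) * if vdeg d v = n then (Wt g v).coeff k else 0) =
      ∑ r ∈ Finset.range (n + 1), ∑ y ∈ Finset.HasAntidiagonal.antidiagonal k,
        (if d i ∣ r then ((g i ^ (r / d i)).coeff y.1 : ℂ) • lft i (pp ((Q : ℂ) ^ d i) (r / d i)) else 0) *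
          Eop d Q g (n - r) y.2 := by
    intro i
    rw [← newton_UF d Q i n]
    · have h1 : ∀ m ∈ Finset.range (n + 1), lft i (pp ((Q : ℂ) ^ d i) m) *
          UF d Q (fun v => if vdeg d (v + Finsupp.single i m) = n then (Wt g (v + Finsupp.single i m)).coeff k else 0) =
          if d i * m ≤ n then ∑ y ∈ Finset.HasAntidiagonal.antidiagonal k,
            (((g i ^ m).coeff y.1 : ℂ) • lft i (pp ((Q : ℂ) ^ d i) m)) * Eop d Q g (n - d i * m) y.2 else 0 := by
        intro m _
        split_ifs with hm
        · have h2 : (fun v : I →₀ ℕ => if vdeg d (v + Finsupp.single i m) = n then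
              (Wt g (v + Finsupp.single i m)).coeff k else 0) =
              fun v => ∑ y ∈ Finset.HasAntidiagonal.antidiagonal k,
                (g i ^ m).coeff y.1 * if vdeg d v = n - d i * m then (Wt g v).coeff y.2 else 0 := by
            funext v
            rw [vdeg_add, vdeg_single, Wt_add, Wt_single, mul_comm (Wt g v), coeff_mul]
            by_cases hv : vdeg d v + d i * m = n
            · rw [if_pos hv]
              refine Finset.sum_congr rfl fun y _ => ?_
              rw [if_pos (by omega)]
            · rw [if_neg hv]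
              symm
              refine Finset.sum_eq_zero fun y _ => ?_
              rw [if_neg (by omega), mul_zero]
          rw [h2, UF_sum, Finset.mul_sum]
          refine Finset.sum_congr rfl fun y _ => ?_
          rw [UF_smul, mul_smul_comm, smul_mul_assoc]
          rfl
        · have h2 : (fun v : I →₀ ℕ => if vdeg d (v + Finsupp.single i m) = n then
              (Wt g (v + Finsupp.single i m)).coeff k else 0) = fun _ => 0 := by
            funext v
            rw [vdeg_add, vdeg_single, if_neg (by omega)]
          rw [h2, UF_zero, mul_zero]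
      rw [Finset.sum_congr rfl h1, ← Finset.sum_filter]
      symm
      have h3 : ∀ r ∈ Finset.range (n + 1), (∑ y ∈ Finset.HasAntidiagonal.antidiagonal k,
          (if d i ∣ r then ((g i ^ (r / d i)).coeff y.1 : ℂ) • lft i (pp ((Q : ℂ) ^ d i) (r / d i)) else 0) *
            Eop d Q g (n - r) y.2) = if d i ∣ r then ∑ y ∈ Finset.HasAntidiagonal.antidiagonal k,
          (((g i ^ (r / d i)).coeff y.1 : ℂ) • lft i (pp ((Q : ℂ) ^ d i) (r / d i))) *
            Eop d Q g (n - r) y.2 else 0 := by
        intro r _
        split_ifs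
        · rfl
        · exact Finset.sum_eq_zero fun y _ => zero_mul _
      rw [Finset.sum_congr rfl h3, ← Finset.sum_filter]
      refine Finset.sum_nbij' (fun r => r / d i) (fun m => d i * m) ?_ ?_ ?_ ?_ ?_
      · intro r hr
        rw [Finset.mem_filter, Finset.mem_range] at hr ⊢
        rw [Nat.mul_div_cancel' hr.2]
        have := Nat.div_le_self r (d i)
        omega
      · intro m hm
        rw [Finset.mem_filter, Finset.mem_range] at hm ⊢
        exact ⟨by omega, dvd_mul_right _ _⟩
      · intro r hr
        rw [Finset.mem_filter] at hr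
        exact Nat.mul_div_cancel' hr.2
      · intro m _
        exact Nat.mul_div_cancel_left m (hd i)
      · intro r hr
        rw [Finset.mem_filter] at hr
        rw [Nat.mul_div_cancel' hr.2]
    · intro v hv
      rw [if_neg]
      intro h
      have h1 := mul_le_vdeg d v i
      have h2 := Nat.le_mul_of_pos_left (v i) (hd i)
      omega
  have h1 : n • Eop d Q g n k = ∑ i, (d i : ℂ) •
      UF d Q (fun v => (v i : ℂ) * if vdeg d v = n then (Wt g v).coeff k else 0) := by
    rw [← Nat.cast_smul_eq_nsmul ℂ, Eop, ← UF_smul]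
    simp only [← UF_smul]
    rw [← UF_sum]
    congr 1
    funext v
    by_cases hv : vdeg d v = n
    · rw [if_pos hv]
      simp only [← mul_assoc]
      rw [← Finset.sum_mul]
      congr 1
      rw [← hv, vdeg_fintype]
      push_cast
      rfl
    · rw [if_neg hv, mul_zero]
      symm
      exact Finset.sum_eq_zero fun i _ => by rw [mul_zero, mul_zero]
  rw [h1]
  simp only [key]
  simp only [Finset.smul_sum]
  rw [Finset.sum_comm]
  refine Finset.sum_congr rfl fun r _ => ?_
  rw [Finset.sum_comm]
  refine Finset.sum_congr rfl fun y _ => ?_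
  rw [PQ, Finset.sum_mul]
  refine Finset.sum_congr rfl fun i _ => ?_
  split_ifs
  · rw [mul_smul, smul_mul_assoc (d i : ℂ)]
  · rw [zero_mul, smul_zero]

end Neck

end Cfsg.Agent.H531.GU
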