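import Cfsg.Agent.H531.GU.Rea
import Mathlib.RingTheory.PowerSeries.Inverse

/-!
# S4537, B2: the necklace operators preserve generalized characters (helper531)

* `iW g v j` : the coefficients of the inverse of `Wt g v`;
* `Eop_eq` : `E_{n,k} x = ∑_{a+b=k} coeff_a (Wt g (sz lam)) * Uop n (iW_b * x)`;
* `gc_Eop` : `E_{n,k}` preserves generalized characters if the coefficients of `Wt g (sz lam)` are
  generalized characters.
-/

set_option autoImplicit false
set_option linter.unusedSectionVars false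

open scoped ComplexConjugate
open Cfsg Cfsg.Agent.H615.GU Cfsg.Agent.H315.GU
open Cfsg.Agent.OddOrderCharacters.VChar

universe u

namespace Cfsg.Agent.H531.GU

open Polynomial

section

variable {I : Type*} (g : I → ℂ[X])

theorem Wt_coeff_zero (hg : ∀ i, (g i).coeff 0 = 1) (v : I →₀ ℕ) : (Wt g v).coeff 0 = 1 := by
  rw [Wt, Finsupp.prod, coeff_zero_prod]
  refine Finset.prod_eq_one fun i _ => ?_
  rw [coeff_zero_eq_eval_zero, eval_pow, ← coeff_zero_eq_eval_zero, hg, one_pow]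

/-- the coefficients of the inverse of the weight -/
noncomputable def iW (v : I →₀ ℕ) (j : ℕ) : ℂ := PowerSeries.coeff j ((Wt g v : ℂ[X]) : PowerSeries ℂ)⁻¹

theorem iW_inv (hg : ∀ i, (g i).coeff 0 = 1) (v : I →₀ ℕ) :
    ((Wt g v : ℂ[X]) : PowerSeries ℂ) * ((Wt g v : ℂ[X]) : PowerSeries ℂ)⁻¹ = 1 := by
  refine PowerSeries.mul_inv_cancel _ ?_
  rw [← PowerSeries.coeff_zero_eq_constantCoeff_apply, Polynomial.coeff_coe, Wt_coeff_zero g hg]
  exact one_ne_zero

theorem iW_sum (hg : ∀ i, (g i).coeff 0 = 1) (v : I →₀ ℕ) (j : ℕ) :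
    ∑ y ∈ Finset.HasAntidiagonal.antidiagonal j, (Wt g v).coeff y.1 * iW g v y.2 = if j = 0 then 1 else 0 := by
  have h := congrArg (PowerSeries.coeff j) (iW_inv g hg v)
  rw [PowerSeries.coeff_mul, PowerSeries.coeff_one] at h
  rw [← h]
  refine Finset.sum_congr rfl fun y _ => ?_
  rw [Polynomial.coeff_coe]
  rfl

theorem iW_zero (hg : ∀ i, (g i).coeff 0 = 1) (v : I →₀ ℕ) : iW g v 0 = 1 := by
  have h := iW_sum g hg v 0
  rw [Finset.Nat.antidiagonal_zero, Finset.sum_singleton, Wt_coeff_zero g hg, one_mul, if_pos rfl] at h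
  exact h

theorem iW_succ (hg : ∀ i, (g i).coeff 0 = 1) (v : I →₀ ℕ) (j : ℕ) : iW g v (j + 1) =
    -∑ y ∈ Finset.HasAntidiagonal.antidiagonal j, (Wt g v).coeff (y.1 + 1) * iW g v y.2 := by
  have h := iW_sum g hg v (j + 1)
  rw [Finset.Nat.sum_antidiagonal_succ, Wt_coeff_zero g hg, one_mul, if_neg (Nat.succ_ne_zero j)] at h
  exact eq_neg_of_add_eq_zero_left h

/-- the weight of a difference -/
theorem Wt_sub (hg : ∀ i, (g i).coeff 0 = 1) (v w : I →₀ ℕ) (k : ℕ) : (Wt g v).coeff k =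
    ∑ y ∈ Finset.HasAntidiagonal.antidiagonal k, (Wt g (v + w)).coeff y.1 * iW g w y.2 := by
  have h : ((Wt g v : ℂ[X]) : PowerSeries ℂ) =
      ((Wt g (v + w) : ℂ[X]) : PowerSeries ℂ) * ((Wt g w : ℂ[X]) : PowerSeries ℂ)⁻¹ := by
    rw [Wt_add, Polynomial.coe_mul, mul_assoc, iW_inv g hg, mul_one]
  have h1 := congrArg (PowerSeries.coeff k) h
  rw [PowerSeries.coeff_mul, Polynomial.coeff_coe] at h1
  rw [h1]
  refine Finset.sum_congr rfl fun y _ => ?_
  rw [Polynomial.coeff_coe]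
  rfl

variable (d : I → ℕ) (Q : ℤ)

theorem Eop_eq (hg : ∀ i, (g i).coeff 0 = 1) (n k : ℕ) (x : Ty I → ℂ) : Eop d Q g n k x =
    ∑ y ∈ Finset.HasAntidiagonal.antidiagonal k, (fun lam : Ty I => (Wt g (sz lam)).coeff y.1) *
      Uop d Q n ((fun lam : Ty I => iW g (sz lam) y.2) * x) := by
  classical
  funext lam
  rw [Eop, UF_apply, Finset.sum_apply]
  simp only [Pi.mul_apply]
  have h : ∀ y ∈ Finset.HasAntidiagonal.antidiagonal k,
      (Wt g (sz lam)).coeff y.1 * Uop d Q n ((fun lam : Ty I => iW g (sz lam) y.2) * x) lam =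
      ∑ c ∈ tbelow lam, (Wt g (sz lam)).coeff y.1 *
        (Ng d Q lam c * (if vdeg d (sz lam - sz c) = n then 1 else 0) * (iW g (sz c) y.2 * x c)) := by
    intro y _
    rw [Uop_eq]
    show (Wt g (sz lam)).coeff y.1 * UF d Q (fun v => if vdeg d v = n then 1 else 0) _ lam = _
    rw [UF_apply, Finset.mul_sum]
    rfl
  rw [Finset.sum_congr rfl h, Finset.sum_comm]
  refine Finset.sum_congr rfl fun c hc => ?_
  rw [mem_tbelow] at hc
  by_cases hv : vdeg d (sz lam - sz c) = n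
  · rw [if_pos hv, Wt_sub g hg _ (sz c), tsub_add_cancel_of_le (sz_mono hc), Finset.mul_sum, Finset.sum_mul]
    refine Finset.sum_congr rfl fun y _ => ?_
    rw [if_pos hv]
    ring
  · rw [if_neg hv, mul_zero, zero_mul]
    symm
    refine Finset.sum_eq_zero fun y _ => ?_
    rw [if_neg hv]
    ring

theorem Eop_below {n k m : ℕ} (h : m < n) (x : Ty I → ℂ) {lam : Ty I} (hlam : tdeg d lam = m) :
    Eop d Q g n k x lam = 0 := by
  classical
  rw [Eop, UF_apply]
  refine Finset.sum_eq_zero fun c hc => ?_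
  rw [mem_tbelow] at hc
  have h1 : vdeg d (sz lam - sz c) + tdeg d c = tdeg d lam := by
    rw [← vdeg_sz, ← vdeg_sz, ← vdeg_add, tsub_add_cancel_of_le (sz_mono hc)]
  rw [if_neg (by omega), mul_zero, zero_mul]

end

section GCs

variable {I : Type*} {d : I → ℕ} {Q : ℤ}
variable {G : ℕ → Type u} [∀ n, Group (G n)] [∀ n, Finite (G n)] {N : ℕ} {T : ∀ n, n ≤ N → TypeData d Q (G n) n}
variable {n m : ℕ} {g : I → ℂ[X]}

theorem GC.one : GC T n (fun _ => 1) := fun _ => gen_one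

theorem gc_iW (hg : ∀ i, (g i).coeff 0 = 1) (hE : ∀ k, GC T n (fun lam => (Wt g (sz lam)).coeff k)) (j : ℕ) :
    GC T n (fun lam => iW g (sz lam) j) := by
  induction j using Nat.strong_induction_on with
  | _ j ih =>
    cases j with
    | zero =>
      have h : (fun lam : Ty I => iW g (sz lam) 0) = fun _ => 1 := funext fun lam => iW_zero g hg _
      rw [h]
      exact GC.one
    | succ j =>
      have h : (fun lam : Ty I => iW g (sz lam) (j + 1)) = -∑ y ∈ Finset.HasAntidiagonal.antidiagonal j,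
          (fun lam : Ty I => (Wt g (sz lam)).coeff (y.1 + 1)) * fun lam : Ty I => iW g (sz lam) y.2 := by
        funext lam
        rw [iW_succ g hg, Pi.neg_apply, Finset.sum_apply]
        rfl
      rw [h]
      refine (GC.sum _ fun y hy => (hE _).mul (ih y.2 ?_)).neg
      rw [Finset.HasAntidiagonal.mem_antidiagonal] at hy
      omega

variable (hd : ∀ i, 0 < d i) (hQ : 2 ≤ |Q|) (hf : ∀ n, {lam : Ty I | tdeg d lam = n}.Finite)
  (hW : ∀ n m (hn : n ≤ N) (hm : m ≤ N), IsGeneralizedCharacter (G n × G m) fun x =>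
    (Q.sign : ℂ) ^ (n * m) * (Q : ℂ) ^ tip d ((T n hn).typ x.1) ((T m hm).typ x.2⁻¹))

include hd hQ hf hW

theorem gc_Eop (hg : ∀ i, (g i).coeff 0 = 1) (hE : ∀ n k, GC T n (fun lam => (Wt g (sz lam)).coeff k))
    {x : Ty I → ℂ} (hx : GC T m x) (n k : ℕ) : GC T (m + n) (Eop d Q g n k x) := by
  rw [Eop_eq g d Q hg]
  exact GC.sum _ fun y _ => (hE _ _).mul (gc_Uop hd hQ hf hW m _ ((gc_iW hg (hE m) _).mul hx) n)

/-- **The necklace operators preserve generalized characters.** -/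
theorem gc_Eop' (hg : ∀ i, (g i).coeff 0 = 1) (hE : ∀ n k, GC T n (fun lam => (Wt g (sz lam)).coeff k))
    {x : Ty I → ℂ} (hx : ∀ n, GC T n x) (r k n : ℕ) : GC T n (Eop d Q g r k x) := by
  by_cases h : r ≤ n
  · have h1 := gc_Eop hd hQ hf hW hg hE (hx (n - r)) r k
    rwa [Nat.sub_add_cancel h] at h1
  · refine (GC.zero (T := T) (n := n)).congr fun lam hlam => ?_
    rw [Eop_below g d Q (not_le.1 h) x hlam]
    rfl

end GCs

end Cfsg.Agent.H531.GU
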