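import Cfsg.Agent.H531.GU.Theta
import Cfsg.Agent.H417.GU.Comm

/-!
# S4537, F2: commuting operators on functions of types (helper531)

* `sz lam` : the sizes; `UF F` : `f ↦ ∑ k ≤ lam, Ng lam k * F (sz lam - sz k) * f k`;
* `UF_comm` : these operators commute (from (I2)).
-/

set_option autoImplicit false
set_option linter.unusedSectionVars false

open Cfsg Cfsg.Agent.H615.GU Cfsg.Agent.H315.GU

namespace Cfsg.Agent.H531.GU

/-- (I2) -/
def I2S : Prop := ∀ (l n : Col) (a b : ℕ), n.size + a + b = l.size →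
  ∑ k ∈ (Col.below l).filter (fun k => k.size = n.size + a), Np l k * Np k n =
    ∑ k ∈ (Col.below l).filter (fun k => k.size = n.size + b), Np l k * Np k n

variable {I : Type*}

/-- the sizes of a type -/
noncomputable def sz (lam : Ty I) : I →₀ ℕ := lam.mapRange Col.size Col.size_zero

@[simp] theorem sz_apply (lam : Ty I) (i : I) : sz lam i = (lam i).size := Finsupp.mapRange_apply

theorem sz_mono {k lam : Ty I} (h : ∀ i, k i ≤ lam i) : sz k ≤ sz lam := fun i => by
  rw [sz_apply, sz_apply]
  exact Col.size_mono (h i)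

theorem sz_support (lam : Ty I) : (sz lam).support ⊆ lam.support := Finsupp.support_mapRange

variable (d : I → ℕ) (Q : ℤ)

/-- the degree of a vector of sizes -/
def vdeg (v : I →₀ ℕ) : ℕ := v.sum fun i a => d i * a

theorem vdeg_sz (lam : Ty I) : vdeg d (sz lam) = tdeg d lam := by
  unfold vdeg tdeg sz
  rw [Finsupp.sum_mapRange_index]
  intro i
  rw [mul_zero]

theorem vdeg_add (v w : I →₀ ℕ) : vdeg d (v + w) = vdeg d v + vdeg d w := by
  classical
  unfold vdeg
  rw [Finsupp.sum_add_index']
  · intro i; rw [mul_zero]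
  · intro i a b; rw [mul_add]

theorem vdeg_zero : vdeg d (0 : I →₀ ℕ) = 0 := Finsupp.sum_zero_index

open Classical in
/-- the general operator -/
noncomputable def UF (F : (I →₀ ℕ) → ℂ) : Module.End ℂ (Ty I → ℂ) where
  toFun f lam := ∑ k ∈ tbelow lam, Ng d Q lam k * F (sz lam - sz k) * f k
  map_add' f g := by
    funext lam
    simp [mul_add, Finset.sum_add_distrib]
  map_smul' c f := by
    funext lam
    simp only [Pi.smul_apply, smul_eq_mul, RingHom.id_apply, Finset.mul_sum]
    exact Finset.sum_congr rfl fun k _ => by ring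

theorem UF_apply (F : (I →₀ ℕ) → ℂ) (f : Ty I → ℂ) (lam : Ty I) :
    UF d Q F f lam = ∑ k ∈ tbelow lam, Ng d Q lam k * F (sz lam - sz k) * f k := rfl

/-- `Uop` is a special case -/
theorem Uop_eq (j : ℕ) : Uop d Q j = UF d Q fun v => if vdeg d v = j then 1 else 0 := by
  classical
  refine LinearMap.ext fun f => funext fun lam => ?_
  rw [Uop_apply, UF_apply, Finset.sum_filter]
  refine Finset.sum_congr rfl fun k hk => ?_
  rw [mem_tbelow] at hk
  have h1 : vdeg d (sz lam - sz k) + tdeg d k = tdeg d lam := by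
    rw [← vdeg_sz, ← vdeg_sz, ← vdeg_add, tsub_add_cancel_of_le (sz_mono hk)]
  by_cases h : tdeg d k + j = tdeg d lam
  · rw [if_pos h, if_pos (by omega), mul_one]
  · rw [if_neg h, if_neg (by omega), mul_zero, zero_mul]

/-- the local sums -/
noncomputable def loc (i : I) (l n : Col) (a : ℕ) : ℂ :=
  ∑ c ∈ (Col.below l).filter (fun c => c.size = a), ev ((Q : ℂ) ^ d i) (Np l c) * ev ((Q : ℂ) ^ d i) (Np c n)

theorem loc_symm (h2 : I2S) (i : I) (l n : Col) {a b : ℕ} (ha : n.size ≤ a) (hab : a + b = l.size + n.size)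
    (hb : n.size ≤ b) : loc d Q i l n a = loc d Q i l n b := by
  unfold loc
  have h := h2 l n (a - n.size) (b - n.size) (by omega)
  rw [Nat.add_sub_cancel' ha, Nat.add_sub_cancel' hb] at h
  have h3 := congrArg (ev ((Q : ℂ) ^ d i)) h
  simp only [H315.GU.ev_sum, H315.GU.ev_mul] at h3
  exact h3

theorem sum_fiber (lam n : Ty I) (hn : ∀ i, n i ≤ lam i) (G : (I →₀ ℕ) → ℂ) :
    ∑ k ∈ tbelow lam, Ng d Q lam k * Ng d Q k n * G (sz k) =
      open Classical in
      ∑ s ∈ Finset.Icc (sz n) (sz lam), (∏ i ∈ lam.support, loc d Q i (lam i) (n i) (s i)) * G s := by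
  classical
  have h1 : ∑ k ∈ tbelow lam, Ng d Q lam k * Ng d Q k n * G (sz k) =
      ∑ k ∈ (tbelow lam).filter (fun k => sz k ∈ Finset.Icc (sz n) (sz lam)), Ng d Q lam k * Ng d Q k n * G (sz k) := by
    rw [Finset.sum_filter]
    refine Finset.sum_congr rfl fun k hk => ?_
    split_ifs with h
    · rfl
    · have h3 : ¬ ∀ i, n i ≤ k i := by
        intro h4
        apply h
        rw [Finset.mem_Icc]
        exact ⟨sz_mono h4, sz_mono (mem_tbelow.1 hk)⟩
      rw [Ng_eq_zero' d Q h3, mul_zero, zero_mul]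
  rw [h1, ← Finset.sum_fiberwise_of_maps_to (g := fun k => sz k) (fun k hk => (Finset.mem_filter.1 hk).2)]
  refine Finset.sum_congr rfl fun s hs => ?_
  have hs' := Finset.mem_Icc.1 hs
  have hsup : s.support ⊆ lam.support := (Finsupp.support_mono hs'.2).trans (sz_support lam)
  have h2 : ∀ k ∈ tbelow lam, k.support ⊆ lam.support := fun k hk => support_subset (mem_tbelow.1 hk)
  have hnsup : n.support ⊆ lam.support := support_subset hn
  unfold loc
  have h3 := sum_tbelow lam (fun i c => if c.size = s i then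
    ev ((Q : ℂ) ^ d i) (Np (lam i) c) * ev ((Q : ℂ) ^ d i) (Np c (n i)) else 0)
  have h4 : ∀ i ∈ lam.support, (∑ c ∈ (Col.below (lam i)).filter (fun c => c.size = s i),
      ev ((Q : ℂ) ^ d i) (Np (lam i) c) * ev ((Q : ℂ) ^ d i) (Np c (n i))) =
      ∑ c ∈ Col.below (lam i), if c.size = s i then
        ev ((Q : ℂ) ^ d i) (Np (lam i) c) * ev ((Q : ℂ) ^ d i) (Np c (n i)) else 0 := fun i _ => by
    rw [Finset.sum_filter]
  rw [Finset.prod_congr rfl h4, ← h3, Finset.sum_mul]
  have h5 : ∀ k ∈ tbelow lam, (∏ i ∈ lam.support, if (k i).size = s i then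
      ev ((Q : ℂ) ^ d i) (Np (lam i) (k i)) * ev ((Q : ℂ) ^ d i) (Np (k i) (n i)) else 0) * G s =
      if sz k = s then Ng d Q lam k * Ng d Q k n * G (sz k) else 0 := by
    intro k hk
    by_cases h : sz k = s
    · rw [if_pos h, h, Ng_eq_prod d Q (h2 k hk), Ng_eq_prod d Q hnsup, ← Finset.prod_mul_distrib]
      congr 1
      refine Finset.prod_congr rfl fun i _ => ?_
      rw [if_pos (by rw [← h, sz_apply])]
    · rw [if_neg h]
      have h6 : ∃ i ∈ lam.support, (k i).size ≠ s i := by
        by_contra hcon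
        push Not at hcon
        apply h
        ext i
        rw [sz_apply]
        by_cases hi : i ∈ lam.support
        · exact hcon i hi
        · have e1 : k i = 0 := Finsupp.notMem_support_iff.1 fun h => hi (h2 k hk h)
          have e2 : s i = 0 := Finsupp.notMem_support_iff.1 fun h => hi (hsup h)
          rw [e1, e2, Col.size_zero]
      obtain ⟨i, hi, hi'⟩ := h6
      rw [Finset.prod_eq_zero hi (if_neg hi'), zero_mul]
  rw [Finset.sum_congr rfl h5, ← Finset.sum_filter, Finset.filter_filter]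
  refine Finset.sum_congr ?_ fun _ _ => rfl
  ext k
  simp only [Finset.mem_filter]
  constructor
  · rintro ⟨h6, -, h7⟩
    exact ⟨h6, h7⟩
  · rintro ⟨h6, h7⟩
    exact ⟨h6, h7 ▸ hs, h7⟩

theorem UF_comp_apply (F F' : (I →₀ ℕ) → ℂ) (f : Ty I → ℂ) (lam : Ty I) :
    UF d Q F (UF d Q F' f) lam = ∑ n ∈ tbelow lam, (∑ k ∈ tbelow lam, Ng d Q lam k * Ng d Q k n *
      (F (sz lam - sz k) * F' (sz k - sz n))) * f n := by
  classical
  rw [UF_apply]
  have h1 : ∀ k ∈ tbelow lam, Ng d Q lam k * F (sz lam - sz k) * UF d Q F' f k =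
      ∑ n ∈ tbelow lam, Ng d Q lam k * Ng d Q k n * (F (sz lam - sz k) * F' (sz k - sz n)) * f n := by
    intro k hk
    rw [UF_apply, Finset.mul_sum]
    have h2 : tbelow k ⊆ tbelow lam := fun n hn => by
      rw [mem_tbelow] at hn hk ⊢
      exact fun i => (hn i).trans (hk i)
    refine Finset.sum_subset_zero_on_sdiff h2 ?_ fun n _ => by ring
    intro n hn
    rw [Finset.mem_sdiff, mem_tbelow, mem_tbelow] at hn
    rw [Ng_eq_zero' d Q hn.2]
    ring
  rw [Finset.sum_congr rfl h1, Finset.sum_comm]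
  exact Finset.sum_congr rfl fun n _ => by rw [Finset.sum_mul]

/-- **The operators commute.** -/
theorem UF_comm (h2 : I2S) (F F' : (I →₀ ℕ) → ℂ) : UF d Q F * UF d Q F' = UF d Q F' * UF d Q F := by
  classical
  refine LinearMap.ext fun f => funext fun lam => ?_
  rw [Module.End.mul_apply, Module.End.mul_apply, UF_comp_apply, UF_comp_apply]
  refine Finset.sum_congr rfl fun n hn => ?_
  rw [mem_tbelow] at hn
  congr 1
  rw [sum_fiber d Q lam n hn (fun s => F (sz lam - s) * F' (s - sz n)),
    sum_fiber d Q lam n hn (fun s => F' (sz lam - s) * F (s - sz n))]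
  have hle := sz_mono hn
  refine Finset.sum_nbij' (fun s => sz lam + sz n - s) (fun s => sz lam + sz n - s) ?_ ?_ ?_ ?_ ?_
  · intro s hs
    rw [Finset.mem_Icc] at hs ⊢
    constructor
    · intro i
      have := hs.2 i
      simp only [Finsupp.coe_tsub, Finsupp.coe_add, Pi.sub_apply, Pi.add_apply]
      omega
    · intro i
      have := hs.1 i
      simp only [Finsupp.coe_tsub, Finsupp.coe_add, Pi.sub_apply, Pi.add_apply]
      omega
  · intro s hs
    rw [Finset.mem_Icc] at hs ⊢
    constructor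
    · intro i
      have := hs.2 i
      simp only [Finsupp.coe_tsub, Finsupp.coe_add, Pi.sub_apply, Pi.add_apply]
      omega
    · intro i
      have := hs.1 i
      simp only [Finsupp.coe_tsub, Finsupp.coe_add, Pi.sub_apply, Pi.add_apply]
      omega
  · intro s hs
    rw [Finset.mem_Icc] at hs
    ext i
    have := hs.2 i
    simp only [Finsupp.coe_tsub, Finsupp.coe_add, Pi.sub_apply, Pi.add_apply]
    omega
  · intro s hs
    rw [Finset.mem_Icc] at hs
    ext i
    have := hs.2 i
    simp only [Finsupp.coe_tsub, Finsupp.coe_add, Pi.sub_apply, Pi.add_apply]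
    omega
  · intro s hs
    rw [Finset.mem_Icc] at hs
    have e1 : sz lam - (sz lam + sz n - s) = s - sz n := by
      ext i
      have h3 := hs.2 i
      have h4 := hs.1 i
      simp only [Finsupp.coe_tsub, Finsupp.coe_add, Pi.sub_apply, Pi.add_apply]
      omega
    have e2 : sz lam + sz n - s - sz n = sz lam - s := by
      ext i
      have h3 := hs.2 i
      have h4 := hs.1 i
      simp only [Finsupp.coe_tsub, Finsupp.coe_add, Pi.sub_apply, Pi.add_apply]
      omega
    rw [e1, e2, mul_comm (F (sz lam - s))]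
    congr 1
    refine Finset.prod_congr rfl fun i _ => ?_
    have h3 := hs.2 i
    have h4 := hs.1 i
    have h5 := hle i
    rw [sz_apply] at h3 h4 h5
    rw [sz_apply] at h5
    refine loc_symm d Q h2 i _ _ h4 ?_ ?_
    · simp only [Finsupp.coe_tsub, Finsupp.coe_add, Pi.sub_apply, Pi.add_apply, sz_apply]
      omega
    · simp only [Finsupp.coe_tsub, Finsupp.coe_add, Pi.sub_apply, Pi.add_apply, sz_apply]
      omega

end Cfsg.Agent.H531.GU
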