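import Cfsg.Agent.H315.GU.GlobF
import Cfsg.Agent.OddOrderCharacters.VChar
import Cfsg.Agent.S0188

/-!
# S4537, F1: the theta lift (helper531)

`T n : TypeData d Q (G n) n` for all `n`, `hW` : the Weil kernel is a generalized character of `G n × G m`.
* `GC T n f` : the function `f` of the type is a generalized character of `G n`;
* `ipt d Q n f f'` : the inner product in terms of types; `Uad j` : the adjoint of `Uop j`;
* `gc_Uop` : `Uop j` preserves generalized characters; `gc_Uad` : so does `Uad j`.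
-/

set_option autoImplicit false
set_option linter.unusedSectionVars false

open scoped ComplexConjugate
open Cfsg Cfsg.Agent.H615.GU Cfsg.Agent.H315.GU Cfsg.Agent.Characters.Core Cfsg.Agent.OddOrderCharacters.VChar

namespace Cfsg.Agent.H531.GU

universe u

/-! ### partial inner products -/

section Partial

variable {A B : Type u} [Group A] [Finite A] [Group B] [Fintype B]

theorem gen_partial {W : A × B → ℂ} (hW : IsGeneralizedCharacter (A × B) W) {x : B → ℂ}
    (hx : IsGeneralizedCharacter B x) :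
    IsGeneralizedCharacter A (fun a => (Nat.card B : ℂ)⁻¹ * ∑ b, W (a, b) * x b⁻¹) := by
  have := Finite.of_fintype B
  have := finite_irr (G := A × B)
  have := Fintype.ofFinite (IrrCharacter (A × B))
  obtain ⟨m, hm⟩ := isGeneralizedCharacter_iff.1 hW
  have h1 : (fun a => (Nat.card B : ℂ)⁻¹ * ∑ b, W (a, b) * x b⁻¹) = ∑ ψ : IrrCharacter (A × B),
      m ψ • (fun a => (Nat.card B : ℂ)⁻¹ * ∑ b, (ψ : A × B → ℂ) (a, b) * x b⁻¹) := by
    funext a
    rw [hm]
    simp only [Finset.sum_apply, Pi.smul_apply]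
    simp only [zsmul_eq_mul, Finset.sum_mul, Finset.mul_sum]
    rw [Finset.sum_comm]
    exact Finset.sum_congr rfl fun ψ _ => Finset.sum_congr rfl fun b _ => by ring
  rw [h1]
  refine gen_sum _ fun ψ _ => gen_zsmul _ ?_
  obtain ⟨φ, η, hφ, hη, he⟩ := (S0188.result _).1 ψ.2
  obtain ⟨n, hn⟩ := gen_inner (gen_of_irr hη) hx
  have h2 : (fun a => (Nat.card B : ℂ)⁻¹ * ∑ b, (ψ : A × B → ℂ) (a, b) * x b⁻¹) = n • φ := by
    funext a
    rw [Pi.smul_apply, zsmul_eq_mul, ← hn, classInner_def, he]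
    simp only [Finset.mul_sum, Finset.sum_mul]
    exact Finset.sum_congr rfl fun b _ => by rw [gen_apply_inv hx]; ring
  rw [h2]
  exact gen_zsmul _ (gen_of_irr hφ)

end Partial

/-! ### types -/

section Types

variable {I : Type*} {d : I → ℕ} {Q : ℤ}

theorem tdeg_mono {k lam : Ty I} (h : ∀ i, k i ≤ lam i) : tdeg d k ≤ tdeg d lam := by
  rw [tdeg_eq_sum d (support_subset h), tdeg_eq_sum d (Finset.Subset.refl lam.support)]
  exact Finset.sum_le_sum fun i _ => Nat.mul_le_mul_left _ (Col.size_mono (h i))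

theorem col_eq_of_le {k l : Col} (h : k ≤ l) (hs : k.size = l.size) : k = l := by
  ext i
  have h1 := Col.size_eq_sum_range (l := k) (b := max k.size l.size + i + 1) (by omega)
  have h2 := Col.size_eq_sum_range (l := l) (b := max k.size l.size + i + 1) (by omega)
  have h3 : ∑ j ∈ Finset.range (max k.size l.size + i + 1), k j =
      ∑ j ∈ Finset.range (max k.size l.size + i + 1), l j := by rw [← h1, ← h2, hs]
  exact (Finset.sum_eq_sum_iff_of_le (fun j _ => h j)).1 h3 i (Finset.mem_range.2 (by omega))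

theorem eq_of_le (hd : ∀ i, 0 < d i) {k lam : Ty I} (h : ∀ i, k i ≤ lam i) (hk : tdeg d k = tdeg d lam) : k = lam := by
  rw [tdeg_eq_sum d (support_subset h), tdeg_eq_sum d (Finset.Subset.refl lam.support)] at hk
  have h1 := (Finset.sum_eq_sum_iff_of_le (fun i _ => Nat.mul_le_mul_left (d i) (Col.size_mono (h i)))).1 hk
  ext1 i
  by_cases hi : i ∈ lam.support
  · exact col_eq_of_le (h i) (Nat.eq_of_mul_eq_mul_left (hd i) (h1 i hi))
  · have h2 : lam i = 0 := Finsupp.notMem_support_iff.1 hi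
    have h3 := h i
    rw [h2] at h3 ⊢
    exact eq_zero_of_le_zero h3

theorem Ng_self (lam : Ty I) : Ng d Q lam lam = 1 := by
  unfold Ng
  exact Finset.prod_eq_one fun i _ => by rw [H521.GU.Np_self, H315.GU.ev_one]

theorem ev_int (n : ℕ) (P : Polynomial ℤ) : ev ((Q : ℂ) ^ n) P = ((P.eval (Q ^ n) : ℤ) : ℂ) := by
  have h := Polynomial.aeval_algebraMap_apply_eq_algebraMap_eval (A := ℂ) (Q ^ n) P
  simp only [algebraMap_int_eq, eq_intCast, Int.cast_pow] at h
  exact h

theorem Ng_int (lam k : Ty I) : ∃ z : ℤ, Ng d Q lam k = z :=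
  ⟨∏ i ∈ k.support, (Np (lam i) (k i)).eval (Q ^ d i), by
    unfold Ng
    rw [Int.cast_prod]
    exact Finset.prod_congr rfl fun i _ => ev_int _ _⟩

theorem Ag_int (k : Ty I) : ∃ z : ℤ, Ag d Q k = z :=
  ⟨∏ i ∈ k.support, (ap (k i)).eval (Q ^ d i), by
    unfold Ag
    rw [Int.cast_prod]
    exact Finset.prod_congr rfl fun i _ => ev_int _ _⟩

theorem conj_Ng (lam k : Ty I) : conj (Ng d Q lam k) = Ng d Q lam k := by
  obtain ⟨z, hz⟩ := Ng_int (d := d) (Q := Q) lam k
  rw [hz, map_intCast]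

theorem conj_Ag (k : Ty I) : conj (Ag d Q k) = Ag d Q k := by
  obtain ⟨z, hz⟩ := Ag_int (d := d) (Q := Q) k
  rw [hz, map_intCast]

theorem mem_tofDeg {n : ℕ} (hf : {lam : Ty I | tdeg d lam = n}.Finite) {lam : Ty I} :
    lam ∈ tofDeg d n ↔ tdeg d lam = n := by
  unfold tofDeg
  rw [dif_pos hf, Set.Finite.mem_toFinset]
  exact Iff.rfl

variable (d Q)

open Classical in
/-- the adjoint of `Uop j` -/
noncomputable def Uad (j : ℕ) : (Ty I → ℂ) →ₗ[ℂ] (Ty I → ℂ) where
  toFun f k := Ag d Q k * ∑ lam ∈ tofDeg d (tdeg d k + j), Ng d Q lam k * f lam / Ag d Q lam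
  map_add' f g := by
    funext k
    simp [mul_add, add_div, Finset.sum_add_distrib]
  map_smul' c f := by
    funext k
    simp only [Pi.smul_apply, smul_eq_mul, RingHom.id_apply]
    rw [mul_left_comm, Finset.mul_sum (a := c)]
    congr 1
    exact Finset.sum_congr rfl fun k _ => by ring

theorem Uad_apply (j : ℕ) (f : Ty I → ℂ) (k : Ty I) :
    Uad d Q j f k = Ag d Q k * ∑ lam ∈ tofDeg d (tdeg d k + j), Ng d Q lam k * f lam / Ag d Q lam := rfl

theorem Uop_apply (j : ℕ) (f : Ty I → ℂ) (lam : Ty I) : Uop d Q j f lam =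
    ∑ k ∈ (tbelow lam).filter (fun k => tdeg d k + j = tdeg d lam), Ng d Q lam k * f k := rfl

/-- the inner product in terms of types -/
noncomputable def ipt (n : ℕ) (f f' : Ty I → ℂ) : ℂ :=
  ∑ lam ∈ tofDeg d n, f lam * conj (f' lam) / ((Q.sign : ℂ) ^ n * Ag d Q lam)

variable {d Q}

theorem Uad_zero (hd : ∀ i, 0 < d i) (hQ : 2 ≤ |Q|) {n : ℕ} (hf : {lam : Ty I | tdeg d lam = n}.Finite)
    (f : Ty I → ℂ) {k : Ty I} (hk : tdeg d k = n) : Uad d Q 0 f k = f k := by
  rw [Uad_apply, add_zero, hk, Finset.sum_eq_single k]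
  · rw [Ng_self, one_mul, mul_div_cancel₀ _ (Ag_ne_zero' d Q hd hQ k)]
  · intro lam hlam hne
    rw [mem_tofDeg hf] at hlam
    have h1 : ¬ ∀ i, k i ≤ lam i := fun h => hne (eq_of_le hd h (hk.trans hlam.symm)).symm
    rw [Ng_eq_zero' d Q h1, zero_mul, zero_div]
  · intro h
    exact absurd ((mem_tofDeg hf).2 hk) h

/-- adjointness -/
theorem ipt_Uop (hd : ∀ i, 0 < d i) (hQ : 2 ≤ |Q|) {i j : ℕ} (hf : ∀ n, {lam : Ty I | tdeg d lam = n}.Finite)
    (y x : Ty I → ℂ) :
    ipt d Q (i + j) (Uop d Q j y) x * (Q.sign : ℂ) ^ j = ipt d Q i y (Uad d Q j x) := by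
  have hs : (Q.sign : ℂ) ≠ 0 := by
    have h1 : Q.sign ≠ 0 := by
      rw [Ne, Int.sign_eq_zero_iff_zero]
      rintro rfl
      simp at hQ
    exact_mod_cast h1
  classical
  unfold ipt
  rw [Finset.sum_mul]
  have h1 : ∀ lam ∈ tofDeg d (i + j), Uop d Q j y lam * conj (x lam) / ((Q.sign : ℂ) ^ (i + j) * Ag d Q lam) *
      (Q.sign : ℂ) ^ j = ∑ k ∈ tofDeg d i, Ng d Q lam k * y k * conj (x lam) / ((Q.sign : ℂ) ^ i * Ag d Q lam) := by
    intro lam hlam
    rw [mem_tofDeg (hf _)] at hlam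
    have hA := Ag_ne_zero' d Q hd hQ lam
    have h2 : Uop d Q j y lam = ∑ k ∈ tofDeg d i, Ng d Q lam k * y k := by
      rw [Uop_apply]
      refine Finset.sum_subset_zero_on_sdiff ?_ ?_ fun _ _ => rfl
      · intro k hk
        rw [Finset.mem_filter] at hk
        rw [mem_tofDeg (hf _)]
        omega
      · intro k hk
        rw [Finset.mem_sdiff, mem_tofDeg (hf _), Finset.mem_filter, mem_tbelow] at hk
        have h3 : ¬ ∀ i, k i ≤ lam i := fun h => hk.2 ⟨h, by omega⟩
        rw [Ng_eq_zero' d Q h3, zero_mul]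
    rw [h2, Finset.sum_mul, Finset.sum_div, Finset.sum_mul]
    refine Finset.sum_congr rfl fun k _ => ?_
    rw [pow_add]
    field_simp
  rw [Finset.sum_congr rfl h1, Finset.sum_comm]
  refine Finset.sum_congr rfl fun k hk => ?_
  rw [mem_tofDeg (hf _)] at hk
  rw [Uad_apply, map_mul, conj_Ag, map_sum, hk]
  have hA := Ag_ne_zero' d Q hd hQ k
  have h3 : ∀ lam : Ty I, conj (Ng d Q lam k * x lam / Ag d Q lam) = Ng d Q lam k * conj (x lam) / Ag d Q lam :=
    fun lam => by rw [map_div₀, map_mul, conj_Ng, conj_Ag]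
  simp only [h3]
  rw [← mul_assoc, Finset.mul_sum, Finset.sum_div]
  refine Finset.sum_congr rfl fun lam _ => ?_
  have hA' := Ag_ne_zero' d Q hd hQ lam
  field_simp

end Types

/-! ### groups -/

section Group

variable {I : Type*} {d : I → ℕ} {Q : ℤ}

section One

variable {K : Type u} [Group K] [Finite K] {n : ℕ} (T : TypeData d Q K n) (hd : ∀ i, 0 < d i) (hQ : 2 ≤ |Q|)

include T

theorem exists_typ {lam : Ty I} (h : tdeg d lam = n) : ∃ g, T.typ g = lam := by
  by_contra hcon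
  push Not at hcon
  have h1 := T.card lam h
  have h2 : IsEmpty {g : K // T.typ g = lam} := ⟨fun g => hcon g.1 g.2⟩
  rw [Nat.card_of_isEmpty, Nat.cast_zero, zero_mul] at h1
  exact (Nat.cast_ne_zero.2 (Nat.card_pos (α := K)).ne') h1.symm

theorem finite_deg : {lam : Ty I | tdeg d lam = n}.Finite := by
  refine (Set.finite_range T.typ).subset fun lam h => ?_
  exact exists_typ T h

include hd hQ in
theorem sum_typ [Fintype K] (f : Ty I → ℂ) :
    ∑ g : K, f (T.typ g) = Nat.card K * ∑ lam ∈ tofDeg d n, f lam / ((Q.sign : ℂ) ^ n * Ag d Q lam) := by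
  classical
  have hs : (Q.sign : ℂ) ≠ 0 := by
    have h1 : Q.sign ≠ 0 := by
      rw [Ne, Int.sign_eq_zero_iff_zero]
      rintro rfl
      simp at hQ
    exact_mod_cast h1
  have hf := finite_deg T
  rw [← Finset.sum_fiberwise_of_maps_to (s := Finset.univ) (t := tofDeg d n) (g := T.typ)
    (fun g _ => (mem_tofDeg hf).2 (T.deg g)), Finset.mul_sum]
  refine Finset.sum_congr rfl fun lam hlam => ?_
  rw [mem_tofDeg hf] at hlam
  have h1 := T.card lam hlam
  have hA := Ag_ne_zero' d Q hd hQ lam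
  have h2 : ∑ g ∈ Finset.univ.filter (fun g : K => T.typ g = lam), f (T.typ g) =
      (Nat.card {g : K // T.typ g = lam} : ℂ) * f lam := by
    rw [Finset.sum_congr rfl (g := fun _ => f lam) (fun g hg => by rw [(Finset.mem_filter.1 hg).2]), Finset.sum_const,
      nsmul_eq_mul, Nat.card_eq_fintype_card, Fintype.card_subtype]
  rw [h2, ← h1]
  field_simp

include hd hQ in
theorem classInner_typ [Fintype K] (f f' : Ty I → ℂ) :
    classInner (fun g => f (T.typ g)) (fun g => f' (T.typ g)) = ipt d Q n f f' := by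
  rw [classInner_def, sum_typ T hd hQ (fun lam => f lam * conj (f' lam)), ← mul_assoc, inv_mul_cancel₀, one_mul]
  · rfl
  · exact Nat.cast_ne_zero.2 (Nat.card_pos (α := K)).ne'

theorem isClass_typ (f : Ty I → ℂ) : IsClassFunction K (fun g => f (T.typ g)) := fun g h => by
  show f (T.typ (h * g * h⁻¹)) = f (T.typ g)
  rw [T.conj]

/-- every class function is a function of the type -/
theorem exists_fun {χ : K → ℂ} (hχ : IsClassFunction K χ) : ∃ y : Ty I → ℂ, χ = fun g => y (T.typ g) := by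
  classical
  refine ⟨fun lam => if h : ∃ g, T.typ g = lam then χ h.choose else 0, funext fun g => ?_⟩
  have h1 : ∃ g', T.typ g' = T.typ g := ⟨g, rfl⟩
  show χ g = if h : ∃ g', T.typ g' = T.typ g then χ h.choose else 0
  rw [dif_pos h1]
  obtain ⟨c, hc⟩ := isConj_iff.1 (T.sep _ _ h1.choose_spec)
  have h2 := hχ h1.choose c
  rw [hc] at h2
  exact h2

end One

variable {G : ℕ → Type u} [∀ n, Group (G n)] [∀ n, Finite (G n)] {N : ℕ} (T : ∀ n, n ≤ N → TypeData d Q (G n) n)

/-- the function `f` of the type is a generalized character of `G n` (if `n ≤ N`) -/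
def GC (n : ℕ) (f : Ty I → ℂ) : Prop := ∀ h : n ≤ N, IsGeneralizedCharacter (G n) (fun g => f ((T n h).typ g))

variable {T} {n m : ℕ} {f f' : Ty I → ℂ}

theorem GC.congr (h : GC T n f) (he : ∀ lam, tdeg d lam = n → f' lam = f lam) : GC T n f' := by
  intro hn
  have h1 : (fun g => f' ((T n hn).typ g)) = fun g => f ((T n hn).typ g) := funext fun g => he _ ((T n hn).deg g)
  rw [h1]
  exact h hn

theorem GC.add (h : GC T n f) (h' : GC T n f') : GC T n (f + f') := fun hn => gen_add (h hn) (h' hn)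

theorem GC.sub (h : GC T n f) (h' : GC T n f') : GC T n (f - f') := fun hn => gen_sub (h hn) (h' hn)

theorem GC.neg (h : GC T n f) : GC T n (-f) := fun hn => gen_neg (h hn)

theorem GC.zero : GC T n 0 := fun _ => gen_zero

theorem GC.zsmul (z : ℤ) (h : GC T n f) : GC T n (z • f) := fun hn => gen_zsmul z (h hn)

theorem GC.mul (h : GC T n f) (h' : GC T n f') : GC T n (f * f') := fun hn => gen_mul (h hn) (h' hn)

theorem GC.sum {ι : Type*} (s : Finset ι) {f : ι → Ty I → ℂ} (h : ∀ i ∈ s, GC T n (f i)) :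
    GC T n (∑ i ∈ s, f i) := by
  classical
  induction s using Finset.induction_on with
  | empty => rw [Finset.sum_empty]; exact GC.zero
  | insert a s ha ih =>
    rw [Finset.sum_insert ha]
    exact (h a (Finset.mem_insert_self _ _)).add (ih fun i hi => h i (Finset.mem_insert_of_mem hi))

theorem GC.of_smul {z : ℤ} (hz : z * z = 1) (h : GC T n ((z : ℂ) • f)) : GC T n f := by
  have h1 := h.zsmul z
  refine h1.congr fun lam _ => ?_
  simp only [Pi.smul_apply, zsmul_eq_mul, smul_eq_mul]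
  rw [← mul_assoc, ← Int.cast_mul, hz, Int.cast_one, one_mul]

section

variable (hd : ∀ i, 0 < d i) (hQ : 2 ≤ |Q|)

include hd hQ

theorem sign_mul_self : Q.sign * Q.sign = 1 := by
  have h1 : Q ≠ 0 := by
    rintro rfl
    simp at hQ
  rcases lt_or_gt_of_ne h1 with h | h
  · rw [Int.sign_eq_neg_one_of_neg h]; rfl
  · rw [Int.sign_eq_one_of_pos h]; rfl

theorem GC.ipt_int (hn : n ≤ N) (h : GC T n f) (h' : GC T n f') : ∃ z : ℤ, ipt d Q n f f' = z := by
  have := Fintype.ofFinite (G n)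
  rw [← classInner_typ (T n hn) hd hQ]
  exact gen_inner (h hn) (h' hn)

theorem GC.of_ipt (h : n ≤ N → ∀ y, GC T n y → ∃ z : ℤ, ipt d Q n f y = z) : GC T n f := by
  intro hn
  have := Fintype.ofFinite (G n)
  refine gen_of_inner_int (isClass_typ (T n hn) f) fun χ hχ => ?_
  obtain ⟨y, rfl⟩ := exists_fun (T n hn) (gen_isClassFunction (gen_of_irr hχ))
  rw [classInner_typ (T n hn) hd hQ]
  exact h hn y fun _ => gen_of_irr hχ

theorem conj_ipt (f f' : Ty I → ℂ) : conj (ipt d Q n f f') = ipt d Q n f' f := by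
  unfold ipt
  rw [map_sum]
  refine Finset.sum_congr rfl fun lam _ => ?_
  rw [map_div₀, map_mul, Complex.conj_conj, map_mul, conj_Ag, map_pow, map_intCast, mul_comm]

variable (hf : ∀ n, {lam : Ty I | tdeg d lam = n}.Finite)

include hf

/-- the adjoint operator -/
theorem GC.Uad {i j : ℕ} (hij : i + j ≤ N) (hU : ∀ y, GC T i y → GC T (i + j) (Uop d Q j y)) (h : GC T (i + j) f) :
    GC T i (Uad d Q j f) := by
  refine GC.of_ipt hd hQ fun hi y hy => ?_
  obtain ⟨z, hz⟩ := GC.ipt_int hd hQ hij (hU y hy) h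
  refine ⟨z * Q.sign ^ j, ?_⟩
  rw [← conj_ipt hd hQ, ← ipt_Uop hd hQ hf, hz, Int.cast_mul, Int.cast_pow, map_mul, map_pow, map_intCast,
    map_intCast]

/-- the theta lift in terms of types -/
theorem theta_eq (x : Ty I → ℂ) (m j : ℕ) {lam : Ty I}
    (hlam : tdeg d lam = m + j) :
    ∑ mu ∈ tofDeg d m, (Q : ℂ) ^ tip d lam mu * x mu / Ag d Q mu =
      ∑ i ∈ Finset.range (m + 1), Uop d Q (m + j - i) (H531.GU.Uad d Q (m - i) x) lam := by
  classical
  have h1 : ∑ mu ∈ tofDeg d m, (Q : ℂ) ^ tip d lam mu * x mu / Ag d Q mu =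
      ∑ k ∈ tbelow lam, Ng d Q lam k * (Ag d Q k * ∑ mu ∈ tofDeg d m, Ng d Q mu k * x mu / Ag d Q mu) := by
    simp only [Finset.mul_sum]
    rw [Finset.sum_comm]
    refine Finset.sum_congr rfl fun mu _ => ?_
    rw [← GI1' d Q lam mu, Finset.sum_mul, Finset.sum_div]
    exact Finset.sum_congr rfl fun k _ => by ring
  rw [h1]
  have h2 : ∀ k ∈ tbelow lam, tdeg d k ∉ Finset.range (m + 1) →
      Ng d Q lam k * (Ag d Q k * ∑ mu ∈ tofDeg d m, Ng d Q mu k * x mu / Ag d Q mu) = 0 := by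
    intro k _ hk
    rw [Finset.mem_range, not_lt] at hk
    rw [Finset.sum_eq_zero, mul_zero, mul_zero]
    intro mu hmu
    rw [mem_tofDeg (hf _)] at hmu
    have h3 : ¬ ∀ i, k i ≤ mu i := fun h => by
      have := tdeg_mono (d := d) h
      omega
    rw [Ng_eq_zero' d Q h3, zero_mul, zero_div]
  have h3 : ∑ k ∈ tbelow lam, Ng d Q lam k * (Ag d Q k * ∑ mu ∈ tofDeg d m, Ng d Q mu k * x mu / Ag d Q mu) =
      ∑ k ∈ (tbelow lam).filter (fun k => tdeg d k ∈ Finset.range (m + 1)),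
        Ng d Q lam k * (Ag d Q k * ∑ mu ∈ tofDeg d m, Ng d Q mu k * x mu / Ag d Q mu) := by
    rw [Finset.sum_filter]
    refine Finset.sum_congr rfl fun k hk => ?_
    split_ifs with h
    · rfl
    · exact h2 k hk h
  rw [h3, ← Finset.sum_fiberwise_of_maps_to (s := (tbelow lam).filter (fun k => tdeg d k ∈ Finset.range (m + 1)))
    (t := Finset.range (m + 1)) (g := fun k => tdeg d k) (fun k hk => (Finset.mem_filter.1 hk).2)]
  refine Finset.sum_congr rfl fun i hi => ?_
  rw [Finset.mem_range] at hi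
  rw [Uop_apply]
  refine Finset.sum_congr ?_ fun k hk => ?_
  · ext k
    simp only [Finset.mem_filter, Finset.mem_range]
    constructor
    · rintro ⟨⟨h4, -⟩, h5⟩
      exact ⟨h4, by omega⟩
    · rintro ⟨h4, h5⟩
      exact ⟨⟨h4, by omega⟩, by omega⟩
  · rw [Uad_apply]
    have h4 : tdeg d k + (m - i) = m := by
      have := (Finset.mem_filter.1 hk).2
      omega
    rw [h4]

variable (hW : ∀ n m (hn : n ≤ N) (hm : m ≤ N), IsGeneralizedCharacter (G n × G m) fun x =>
  (Q.sign : ℂ) ^ (n * m) * (Q : ℂ) ^ tip d ((T n hn).typ x.1) ((T m hm).typ x.2⁻¹))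

include hW

omit hf in
theorem gc_theta (hm : m ≤ N) (h : GC T m f) :
    GC T n (fun lam => ∑ mu ∈ tofDeg d m, (Q : ℂ) ^ tip d lam mu * f mu / Ag d Q mu) := by
  by_cases hn : n ≤ N
  swap
  · exact fun hn' => absurd hn' hn
  have := Fintype.ofFinite (G m)
  have h1 := gen_partial (hW n m hn hm) (h hm)
  have hs := sign_mul_self hd hQ
  have hs0 : (Q.sign : ℂ) ≠ 0 := by
    intro h0
    have h2 : ((Q.sign * Q.sign : ℤ) : ℂ) = 1 := by rw [hs, Int.cast_one]
    rw [Int.cast_mul, h0, zero_mul] at h2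
    exact zero_ne_one h2
  have h2 : GC T n ((((Q.sign ^ (n * m + m) : ℤ)) : ℂ) •
      fun lam => ∑ mu ∈ tofDeg d m, (Q : ℂ) ^ tip d lam mu * f mu / Ag d Q mu) := by
    intro _
    convert h1 using 2 with g
    rw [Pi.smul_apply, smul_eq_mul]
    have h3 : ∑ b : G m, (Q.sign : ℂ) ^ (n * m) * (Q : ℂ) ^ tip d ((T n hn).typ g) ((T m hm).typ b⁻¹) * f ((T m hm).typ b⁻¹) =
        ∑ b : G m, (Q.sign : ℂ) ^ (n * m) * (Q : ℂ) ^ tip d ((T n hn).typ g) ((T m hm).typ b) * f ((T m hm).typ b) :=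
      Equiv.sum_comp (Equiv.inv (G m)) (fun b : G m =>
        (Q.sign : ℂ) ^ (n * m) * (Q : ℂ) ^ tip d ((T n hn).typ g) ((T m hm).typ b) * f ((T m hm).typ b))
    rw [h3, sum_typ (T m hm) hd hQ (fun mu => (Q.sign : ℂ) ^ (n * m) * (Q : ℂ) ^ tip d ((T n hn).typ g) mu * f mu),
      ← mul_assoc, inv_mul_cancel₀ (Nat.cast_ne_zero.2 (Nat.card_pos (α := G m)).ne'), one_mul, Finset.mul_sum]
    refine Finset.sum_congr rfl fun mu _ => ?_
    have hA := Ag_ne_zero' d Q hd hQ mu
    have h4 : ((Q.sign : ℂ)) ^ m * (Q.sign : ℂ) ^ m = 1 := by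
      rw [← mul_pow, ← Int.cast_mul, hs, Int.cast_one, one_pow]
    rw [Int.cast_pow, pow_add]
    field_simp
    rw [sq, h4, one_mul]
  refine GC.of_smul ?_ h2
  rw [← mul_pow, hs, one_pow]

/-- **`Uop j` preserves generalized characters.** -/
theorem gc_Uop : ∀ (m : ℕ) (x : Ty I → ℂ), GC T m x → ∀ j, GC T (m + j) (Uop d Q j x) := by
  intro m
  induction m using Nat.strong_induction_on with
  | _ m ih =>
    intro x hx j
    by_cases hmj : m + j ≤ N
    swap
    · exact fun h => absurd h hmj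
    have h1 : GC T (m + j) (fun lam => ∑ mu ∈ tofDeg d m, (Q : ℂ) ^ tip d lam mu * x mu / Ag d Q mu) :=
      gc_theta hd hQ hW (by omega) hx
    have h2 : GC T (m + j) (∑ i ∈ Finset.range m, Uop d Q (m + j - i) (H531.GU.Uad d Q (m - i) x)) := by
      refine GC.sum _ fun i hi => ?_
      rw [Finset.mem_range] at hi
      have h3 : GC T i (H531.GU.Uad d Q (m - i) x) := by
        refine GC.Uad hd hQ hf (by omega) (fun y hy => ih i hi y hy (m - i)) ?_
        rw [Nat.add_sub_cancel' hi.le]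
        exact hx
      have h4 := ih i hi _ h3 (m + j - i)
      rwa [Nat.add_sub_cancel' (by omega)] at h4
    refine (h1.sub h2).congr fun lam hlam => ?_
    rw [Pi.sub_apply, theta_eq hd hQ hf x m j hlam, Finset.sum_range_succ, Finset.sum_apply, add_sub_cancel_left,
      Nat.sub_self, Nat.add_sub_cancel_left]
    rw [Uop_apply, Uop_apply]
    refine Finset.sum_congr rfl fun k hk => ?_
    have h5 : tdeg d k = m := by
      have := (Finset.mem_filter.1 hk).2
      omega
    rw [Uad_zero hd hQ (hf m) x h5]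

/-- **`Uad j` preserves generalized characters.** -/
theorem gc_Uad {i j : ℕ} (hij : i + j ≤ N) (h : GC T (i + j) f) : GC T i (Uad d Q j f) :=
  GC.Uad hd hQ hf hij (fun y hy => gc_Uop hd hQ hf hW i y hy j) h

end

end Group

end Cfsg.Agent.H531.GU
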